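import Cfsg.Agent.Lib.Helper9.SectionFusion5
import Cfsg.Agent.Lib.Helper9.NPStable

set_option autoImplicit false

namespace Cfsg.Agent.Lib.Helper9

open scoped Pointwise
open Cfsg Cfsg.Agent.Lib.Helper33

universe u

variable {p : ℕ} [Fact p.Prime]

theorem controlsStrongFusion_of_local {G : Type u} [Group G] [Finite G]
    (W : ∀ (Q : Type u) [Group Q], Subgroup Q) (hW : IsCharPFunctor.{u} p W)
    (hloc : ∀ (K R : Subgroup G) [hR : (R.subgroupOf K).Normal],
      Subgroup.centralizer ((pCore p (↥K ⧸ R.subgroupOf K) : Subgroup (↥K ⧸ R.subgroupOf K)) :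
        Set (↥K ⧸ R.subgroupOf K)) ≤ pCore p (↥K ⧸ R.subgroupOf K) →
      ∀ T : Sylow p (↥K ⧸ R.subgroupOf K),
        (inducedFunctor (G := (↥K ⧸ R.subgroupOf K)) W
          ((T : Subgroup (↥K ⧸ R.subgroupOf K)))).Normal)
    (Y : Type u) [Group Y] [Finite Y] (hY : Involves Y G) (T : Sylow p Y) :
    ControlsStrongFusion p (inducedFunctor W (T : Subgroup Y)) := by
  have h𝓦 : ∀ W' ∈ ({W} : Set (∀ (Q : Type u) [Group Q], Subgroup Q)), IsCharPFunctor.{u} p W' := by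
    intro W' hW'
    rw [Set.mem_singleton_iff] at hW'
    subst hW'
    exact hW
  have hall := CS_of_involves (G := G) h𝓦 (by
    intro K R _ hC
    obtain ⟨T⟩ : Nonempty (Sylow p (↥K ⧸ R.subgroupOf K)) := Sylow.nonempty
    rw [CS_iff h𝓦 T]
    intro A h _ hA hhA
    have hN := hloc K R hC T
    refine ⟨h, StepChain.single ⟨hA, hhA, _, ⟨W, rfl, rfl⟩, ⟨Subgroup.mem_top _, ?_⟩⟩, fun _ _ => rfl⟩
    show h ∈ Subgroup.normalizer ((inducedFunctor W (T : Subgroup (↥K ⧸ R.subgroupOf K)) :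
      Subgroup (↥K ⧸ R.subgroupOf K)) : Set (↥K ⧸ R.subgroupOf K))
    rw [Subgroup.normalizer_eq_top]
    exact Subgroup.mem_top _)
  have h1 := (CS_iff h𝓦 T).1 (hall _ hY)
  have hcf := isConjugacyFunctor_induced (G := Y) hW
  refine ⟨T, IsConjugacyFunctor.le hcf T.2, fun A hA => ⟨hA, fun g hgA => ?_⟩⟩
  obtain ⟨x, hx, hx'⟩ := h1 A g (Subgroup.mem_top _) hA hgA
  have e : ind Y {W} = {inducedFunctor W} := Set.image_singleton
  rw [e] at hx
  exact ⟨x, (mem_normalizer_of_stepChain hx).2, fun a ha => (hx' a ha).symm⟩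

end Cfsg.Agent.Lib.Helper9
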