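/-
Helper library (helper9): Bender–Glauberman Theorem 12.13 (S1422): nonabelian `p`-subgroups are
uniqueness subgroups.  Pending rows enter as explicit hypotheses.
-/
import Cfsg.Agent.Lib.Helper9.BG12a
import Cfsg.Agent.Lib.Helper31.BG11a
import Cfsg.Agent.Lib.Helper23.R2a
import Cfsg.Agent.Lib.Helper46.OrderCube

set_option autoImplicit false
set_option linter.unusedSimpArgs false
set_option linter.unusedVariables false
set_option linter.style.haveILetI false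
set_option linter.unusedSectionVars false

namespace Cfsg.Agent.Lib.Helper9.BG12

open Cfsg Cfsg.Agent.Lib.Helper34 Cfsg.Agent.Lib.Helper24 Cfsg.Agent.Lib.Helper31.BG11
open Cfsg.Agent.Lib.Helper72.Bar
open scoped commutatorElement

universe u

variable {G : Type u} [Group G]

theorem isMulCommutative_of_le {A B : Subgroup G} (h : A ≤ B) (hB : IsMulCommutative B) :
    IsMulCommutative A :=
  ⟨⟨fun a b => Subtype.ext (by
    have := congrArg Subtype.val (hB.is_comm.comm ⟨a.1, h a.2⟩ ⟨b.1, h b.2⟩)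
    exact this)⟩⟩

theorem inf_eq_bot_of_coprime' {A B : Subgroup G} (h : (Nat.card A).Coprime (Nat.card B)) :
    A ⊓ B = ⊥ := disjoint_iff.1 (Subgroup.disjoint_of_coprime_natCard h)

/-- Generation by centralizers modulo a central subgroup: `P₁/Z` is a noncyclic abelian group acting
coprimely on `Y`. -/
theorem le_of_forall_centralizer_le [Finite G] {Z P₁ Y L : Subgroup G} (hZP : Z ≤ P₁)
    (hZc : Z ≤ Subgroup.centralizer (P₁ : Set G)) (hZY : Z ≤ Subgroup.centralizer (Y : Set G))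
    (hPY : P₁ ≤ Subgroup.normalizer (Y : Set G)) (hcop : (Nat.card P₁).Coprime (Nat.card Y))
    (hcomm : ⁅P₁, P₁⁆ ≤ Z) (hnab : ¬ IsMulCommutative P₁)
    (hL : ∀ a ∈ P₁, a ∉ Z → Y ⊓ Subgroup.centralizer {a} ≤ L) : Y ≤ L := by
  have hP₁N : P₁ ≤ Subgroup.normalizer (Z : Set G) :=
    (Subgroup.le_centralizer_iff.1 hZc).trans (centralizer_le_normalizer' Z)
  have hYN : Y ≤ Subgroup.normalizer (Z : Set G) :=
    (Subgroup.le_centralizer_iff.1 hZY).trans (centralizer_le_normalizer' Z)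
  have hYZ : Y ⊓ Z = ⊥ := inf_eq_bot_of_coprime'
    ((Nat.Coprime.coprime_dvd_left (Subgroup.card_dvd_of_le hZP) hcop).symm)
  haveI : IsMulCommutative (img Z P₁) := isMulCommutative_img hcomm
  have hA : ¬ IsCyclic (img Z P₁) := by
    intro hc
    apply hnab
    obtain ⟨c, hc⟩ := hc.exists_generator
    obtain ⟨g, hgN, hgP, hgc⟩ := mem_img.1 c.2
    have key : ∀ x ∈ P₁, ∃ k : ℤ, ∃ z ∈ Z, x = z * g ^ k := by
      intro x hx
      obtain ⟨k, hk⟩ := Subgroup.mem_zpowers_iff.1 (hc ⟨_, pr_mem_img (hP₁N hx) hx⟩)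
      have hk' : pr Z ⟨g, hgN⟩ ^ k = pr Z ⟨x, hP₁N hx⟩ := by
        have := congrArg Subtype.val hk
        rw [hgc]
        simpa using this
      have h1 : pr Z (⟨x, hP₁N hx⟩ * ⟨g, hgN⟩ ^ (-k)) = 1 := by
        rw [map_mul, map_zpow, ← hk', ← zpow_add, add_neg_cancel, zpow_zero]
      have h2 : x * g ^ (-k) ∈ Z := by
        have h3 : (⟨x, hP₁N hx⟩ * ⟨g, hgN⟩ ^ (-k) : ↥(Subgroup.normalizer (Z : Set G)))
            = ⟨x * g ^ (-k), Subgroup.mul_mem _ (hP₁N hx) (Subgroup.zpow_mem _ hgN _)⟩ := by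
          apply Subtype.ext; simp
        rw [h3] at h1
        exact (pr_eq_one_iff _).1 h1
      exact ⟨k, _, h2, by group⟩
    have hzc : ∀ z ∈ Z, ∀ y ∈ P₁, z * y = y * z := fun z hz y hy =>
      ((Subgroup.mem_centralizer_iff.1 (hZc hz)) y hy).symm
    refine ⟨⟨fun a b => Subtype.ext ?_⟩⟩
    obtain ⟨k, z, hz, hx⟩ := key a.1 a.2
    obtain ⟨l, w, hw, hy⟩ := key b.1 b.2
    show a.1 * b.1 = b.1 * a.1
    have hgk : ∀ j : ℤ, g ^ j ∈ P₁ := fun j => P₁.zpow_mem hgP j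
    rw [hx, hy]
    calc z * g ^ k * (w * g ^ l) = z * (g ^ k * w) * g ^ l := by group
      _ = z * (w * g ^ k) * g ^ l := by rw [hzc w hw _ (hgk k)]
      _ = (z * w) * (g ^ k * g ^ l) := by group
      _ = (w * z) * (g ^ l * g ^ k) := by
          rw [hzc z hz w (hZP hw), ← zpow_add, ← zpow_add, add_comm]
      _ = w * (z * g ^ l) * g ^ k := by group
      _ = w * (g ^ l * z) * g ^ k := by rw [hzc z hz _ (hgk l)]
      _ = w * g ^ l * (z * g ^ k) := by group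
  have hAK : img Z P₁ ≤ Subgroup.normalizer (img Z Y : Set (QG Z)) := img_le_normalizer hPY
  have hcop' : (Nat.card (img Z P₁)).Coprime (Nat.card (img Z Y)) :=
    Nat.Coprime.coprime_dvd_left (card_img_dvd hP₁N) (Nat.Coprime.coprime_dvd_right (card_img_dvd hYN) hcop)
  have hgen := Cfsg.Agent.S0058.result (img Z P₁) (img Z Y) hA hAK hcop'
  have hle : img Z Y ≤ img Z (Y ⊓ L) := by
    rw [← hgen]
    refine iSup₂_le ?_
    rintro a ⟨haA, ha1⟩ k ⟨hkK, hkc⟩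
    obtain ⟨a₀, haN, haP, rfl⟩ := mem_img.1 haA
    obtain ⟨y, hyN, hyY, rfl⟩ := mem_img.1 hkK
    have haZ : a₀ ∉ Z := fun h => ha1 ((pr_eq_one_iff haN).2 h)
    have hcm : pr Z ⟨a₀, haN⟩ * pr Z ⟨y, hyN⟩ = pr Z ⟨y, hyN⟩ * pr Z ⟨a₀, haN⟩ :=
      Subgroup.mem_centralizer_iff.1 hkc _ rfl
    have h1 : pr Z (⟨a₀, haN⟩ * ⟨y, hyN⟩ * ⟨a₀, haN⟩⁻¹ * ⟨y, hyN⟩⁻¹) = 1 := by
      rw [map_mul, map_mul, map_mul, hcm, map_inv, map_inv]; group
    have h2 : a₀ * y * a₀⁻¹ * y⁻¹ ∈ Z := (pr_eq_one_iff (g := a₀ * y * a₀⁻¹ * y⁻¹) _).1 h1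
    have h3 : a₀ * y * a₀⁻¹ * y⁻¹ ∈ Y :=
      Y.mul_mem ((Subgroup.mem_normalizer_iff.1 (hPY haP) y).1 hyY) (Y.inv_mem hyY)
    have h4 : a₀ * y * a₀⁻¹ * y⁻¹ = 1 := by
      have : a₀ * y * a₀⁻¹ * y⁻¹ ∈ Y ⊓ Z := ⟨h3, h2⟩
      rwa [hYZ, Subgroup.mem_bot] at this
    have h5 : a₀ * y = y * a₀ := by
      have := congrArg (fun t => t * y * a₀) h4
      simpa [mul_assoc] using this
    have h6 : y ∈ L := hL a₀ haP haZ ⟨hyY, Subgroup.mem_centralizer_singleton_iff.2 h5.symm⟩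
    exact pr_mem_img hyN ⟨hyY, h6⟩
  intro y hy
  obtain ⟨y', hyN', hy', he⟩ := mem_img.1 (hle (pr_mem_img (hYN hy) hy))
  have h1 : pr Z (⟨y', hyN'⟩⁻¹ * ⟨y, hYN hy⟩) = 1 := by rw [map_mul, map_inv, he, inv_mul_cancel]
  have h2 : y'⁻¹ * y ∈ Z := (pr_eq_one_iff (g := y'⁻¹ * y) _).1 h1
  have h3 : y'⁻¹ * y ∈ Y ⊓ Z := ⟨Y.mul_mem (Y.inv_mem hy'.1) hy, h2⟩
  rw [hYZ, Subgroup.mem_bot] at h3
  have h4 : y = y' := by
    have := congrArg (fun t => y' * t) h3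
    simpa using this
  rw [h4]; exact hy'.2

/-! ### Nonabelian subgroups of order `p ^ 3` and exponent `p`, ambient form -/

/-- `P₁` is a nonabelian subgroup of order `p ^ 3` and exponent `p`. -/
structure Cube (p : ℕ) (P₁ : Subgroup G) : Prop where
  card : Nat.card P₁ = p ^ 3
  nonab : ¬ IsMulCommutative P₁
  exp : ∀ x ∈ P₁, x ^ p = 1

/-- the centre of a subgroup, as a subgroup of the ambient group. -/
abbrev zen (P₁ : Subgroup G) : Subgroup G := P₁ ⊓ Subgroup.centralizer (P₁ : Set G)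

theorem map_center_eq (P₁ : Subgroup G) : (Subgroup.center ↥P₁).map P₁.subtype = zen P₁ := by
  ext x
  constructor
  · rintro ⟨y, hy, rfl⟩
    refine ⟨y.2, ?_⟩
    apply Subgroup.mem_centralizer_iff.2
    intro h hh
    exact congrArg Subtype.val (Subgroup.mem_center_iff.1 hy ⟨h, hh⟩)
  · rintro ⟨hx, hc⟩
    refine ⟨⟨x, hx⟩, Subgroup.mem_center_iff.2 ?_, rfl⟩
    intro g
    exact Subtype.ext (Subgroup.mem_centralizer_iff.1 hc g g.2)

namespace Cube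

variable {p : ℕ} [hp : Fact p.Prime] {P₁ : Subgroup G}

theorem nc (h : Cube p P₁) : ∃ x y : P₁, x * y ≠ y * x := by
  by_contra hcon
  push Not at hcon
  exact h.nonab ⟨⟨hcon⟩⟩

theorem card_zen (h : Cube p P₁) : Nat.card (zen P₁) = p := by
  rw [← map_center_eq, Subgroup.card_map_of_injective P₁.subtype_injective]
  exact Cfsg.Agent.Lib.Helper46.OrderCube.card_center h.card h.nc

theorem comm_mem (h : Cube p P₁) {x y : G} (hx : x ∈ P₁) (hy : y ∈ P₁) : ⁅x, y⁆ ∈ zen P₁ := by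
  have h1 : ⁅(⟨x, hx⟩ : P₁), ⟨y, hy⟩⁆ ∈ commutator P₁ :=
    Subgroup.commutator_mem_commutator (Subgroup.mem_top _) (Subgroup.mem_top _)
  rw [Cfsg.Agent.Lib.Helper46.OrderCube.commutator_eq_center h.card h.nc] at h1
  rw [← map_center_eq]
  exact ⟨_, h1, rfl⟩

theorem commutator_le (h : Cube p P₁) : ⁅P₁, P₁⁆ ≤ zen P₁ :=
  Subgroup.commutator_le.2 fun x hx y hy => h.comm_mem hx hy

theorem pg (h : Cube p P₁) : IsPGroup p P₁ := IsPGroup.of_card h.card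

theorem exists_not_mem (h : Cube p P₁) : ∃ x ∈ P₁, x ∉ zen P₁ := by
  by_contra hcon
  push Not at hcon
  apply h.nonab
  exact Subgroup.le_centralizer_iff_isMulCommutative.1 (fun x hx => (hcon x hx).2)

theorem zen_elem (h : Cube p P₁) : Cfsg.IsElementaryAbelian p (zen P₁) :=
  isElementaryAbelian_of_card_prime h.card_zen

/-- `A_a = Z ⟨a⟩`. -/
theorem sup_elem (h : Cube p P₁) {a : G} (ha : a ∈ P₁) :
    Cfsg.IsElementaryAbelian p (zen P₁ ⊔ Subgroup.zpowers a) := by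
  apply elemAb_sup_zpowers h.zen_elem _ (h.exp a ha)
  apply Subgroup.mem_centralizer_iff.2
  intro z hz
  exact (Subgroup.mem_centralizer_iff.1 hz.2 a ha).symm

theorem sup_le (h : Cube p P₁) {a : G} (ha : a ∈ P₁) : zen P₁ ⊔ Subgroup.zpowers a ≤ P₁ :=
  _root_.sup_le inf_le_left (Subgroup.zpowers_le.2 ha)

theorem card_sup [Finite G] (h : Cube p P₁) {a : G} (ha : a ∈ P₁) (haZ : a ∉ zen P₁) :
    Nat.card (zen P₁ ⊔ Subgroup.zpowers a : Subgroup G) = p ^ 2 := by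
  have hpp : p.Prime := hp.out
  have h1 : zen P₁ < zen P₁ ⊔ Subgroup.zpowers a := lt_of_le_of_ne le_sup_left (fun he => haZ (by
    rw [he]; exact (le_sup_right : Subgroup.zpowers a ≤ _) (Subgroup.mem_zpowers a)))
  have h2 : zen P₁ ⊔ Subgroup.zpowers a < P₁ := lt_of_le_of_ne (h.sup_le ha) (fun he => h.nonab (by
    rw [← he]; exact (h.sup_elem ha).1))
  have c1 := card_lt_of_lt h1
  have c2 := card_lt_of_lt h2
  rw [h.card_zen] at c1
  rw [h.card] at c2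
  obtain ⟨k, hk⟩ := IsPGroup.iff_card.1 (isPGroup_of_exponent (h.sup_elem ha).2)
  rw [hk] at c1 c2 ⊢
  have k1 : 1 < k := (Nat.pow_lt_pow_iff_right hpp.one_lt).1 (by rwa [pow_one])
  have k2 : k < 3 := (Nat.pow_lt_pow_iff_right hpp.one_lt).1 c2
  have : k = 2 := by omega
  rw [this]

/-- the noncentral elements `b` and `n b` (`n` central) are conjugate in `P₁`. -/
theorem exists_conj [Finite G] (h : Cube p P₁) {b n : G} (hb : b ∈ P₁) (hbZ : b ∉ zen P₁)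
    (hn : n ∈ zen P₁) : ∃ s ∈ P₁, s * b * s⁻¹ = n * b := by
  have hpp : p.Prime := hp.out
  have h1 : ∃ s₀ ∈ P₁, s₀ * b ≠ b * s₀ := by
    by_contra hcon
    push Not at hcon
    exact hbZ ⟨hb, Subgroup.mem_centralizer_iff.2 hcon⟩
  obtain ⟨s₀, hs₀, hne⟩ := h1
  have hζ : ⁅s₀, b⁆ ∈ zen P₁ := h.comm_mem hs₀ hb
  have hζ1 : ⁅s₀, b⁆ ≠ 1 := fun he => hne (commutatorElement_eq_one_iff_mul_comm.1 he)
  have hconj : s₀ * b * s₀⁻¹ = ⁅s₀, b⁆ * b := by rw [commutatorElement_def]; group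
  have hcm : Commute ⁅s₀, b⁆ s₀ := (Subgroup.mem_centralizer_iff.1 hζ.2 s₀ hs₀).symm
  obtain ⟨k, hk⟩ := Cfsg.Agent.Lib.Helper23R.exists_pow_of_card_prime hpp h.card_zen hζ hζ1 n hn
  exact ⟨s₀ ^ k, P₁.pow_mem hs₀ k, by rw [hk]; exact Cfsg.Agent.Lib.Helper23R.conj_pow_left hconj hcm k⟩

/-- two noncentral subgroups of order `p` of `A = Z ⟨x⟩` are conjugate in `P₁`. -/
theorem exists_cj_eq [Finite G] (h : Cube p P₁) {x : G} (hx : x ∈ P₁) (hxZ : x ∉ zen P₁)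
    {A₀ A₁ : Subgroup G} (h₀ : A₀ ≤ zen P₁ ⊔ Subgroup.zpowers x) (c₀ : Nat.card A₀ = p)
    (n₀ : A₀ ≠ zen P₁) (h₁ : A₁ ≤ zen P₁ ⊔ Subgroup.zpowers x) (c₁ : Nat.card A₁ = p)
    (n₁ : A₁ ≠ zen P₁) : ∃ s ∈ P₁, cj s A₀ = A₁ := by
  have hpp : p.Prime := hp.out
  have key : ∀ B : Subgroup G, Nat.card B = p → B ≠ zen P₁ → ∀ a ∈ B, a ≠ 1 → a ∉ zen P₁ := by
    intro B cB nB a ha ha1 haZ
    apply nB
    apply Subgroup.eq_of_le_of_card_ge
    · rw [eq_zpowers_of_card_prime hpp cB ha ha1]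
      exact Subgroup.zpowers_le.2 haZ
    · rw [cB, h.card_zen]
  obtain ⟨a, ha, ha1⟩ := exists_ne_one_of_card_prime hpp c₀
  obtain ⟨a', ha', ha1'⟩ := exists_ne_one_of_card_prime hpp c₁
  have haZ := key A₀ c₀ n₀ a ha ha1
  have haZ' := key A₁ c₁ n₁ a' ha' ha1'
  have haP : a ∈ P₁ := h.sup_le hx (h₀ ha)
  have haN : a ∈ Subgroup.normalizer (zen P₁ : Set G) := by
    apply centralizer_le_normalizer'
    apply Subgroup.mem_centralizer_iff.2
    intro z hz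
    exact (Subgroup.mem_centralizer_iff.1 hz.2 a haP).symm
  obtain ⟨i, n, hn, hin⟩ := Cfsg.Agent.Lib.Helper23R.exists_pow_mul_of_card hpp
    (le_sup_left : zen P₁ ≤ zen P₁ ⊔ Subgroup.zpowers x)
    (by rw [h.card_sup hx hxZ, h.card_zen, sq]) (h₀ ha) haZ haN a' (h₁ ha')
  have hbZ : a ^ i ∉ zen P₁ := by
    intro hb
    apply haZ'
    rw [hin]
    exact Subgroup.mul_mem _ hb hn
  obtain ⟨s, hs, hsb⟩ := h.exists_conj (P₁.pow_mem haP i) hbZ hn
  refine ⟨s, hs, ?_⟩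
  have h3 : a' ∈ cj s A₀ := by
    have h4 : a' = s * a ^ i * s⁻¹ := by
      rw [hsb, hin]
      exact (Subgroup.mem_centralizer_iff.1 hn.2 _ (P₁.pow_mem haP i))
    rw [h4]
    exact conj_mem_map_conj (A₀.pow_mem ha i)
  symm
  apply Subgroup.eq_of_le_of_card_ge
  · rw [eq_zpowers_of_card_prime hpp c₁ ha' ha1']
    exact Subgroup.zpowers_le.2 h3
  · rw [card_map_conj, c₀, c₁]

end Cube

end Cfsg.Agent.Lib.Helper9.BG12
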