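/-
Helper library (helper9): Bender–Glauberman Theorem 12.13 (S1422): nonabelian `p`-subgroups are
uniqueness subgroups: the main argument.  Pending rows enter as explicit hypotheses.
-/
import Cfsg.Agent.Lib.Helper9.BG12b

set_option autoImplicit false
set_option linter.unusedSimpArgs false
set_option linter.unusedVariables false
set_option linter.style.haveILetI false
set_option linter.unusedSectionVars false

namespace Cfsg.Agent.Lib.Helper9.BG12

open Cfsg Cfsg.Agent.Lib.Helper34 Cfsg.Agent.Lib.Helper24 Cfsg.Agent.Lib.Helper31.BG11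
open scoped commutatorElement

universe u

variable {G : Type u} [Group G]

theorem eq_of_coatom_le {M H : Subgroup G} (hM : IsCoatom M) (hH : IsCoatom H) (h : M ≤ H) : M = H := by
  by_contra hne
  exact hH.1 (hM.2 H (lt_of_le_of_ne h hne))

/-- a Sylow subgroup of a nilpotent subgroup is normal in it. -/
theorem le_normalizer_of_nilpotent [Finite G] {p : ℕ} [Fact p.Prime] {K S : Subgroup G}
    (hK : Group.IsNilpotent K) (hS : IsSylowIn p S K) : K ≤ Subgroup.normalizer (S : Set G) := by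
  have h1 : ((hS.toSylow : Sylow p K) : Subgroup K).Normal :=
    Sylow.normal_of_normalizerCondition Group.normalizerCondition_of_isNilpotent _
  rw [hS.coe_toSylow] at h1
  exact (Subgroup.normal_subgroupOf_iff_le_normalizer hS.1).1 h1

/-- a normal Sylow subgroup of a normal subgroup is normal. -/
theorem le_normalizer_of_normal_sylow [Finite G] {p : ℕ} [Fact p.Prime] {M K S : Subgroup G}
    (hMK : M ≤ Subgroup.normalizer (K : Set G)) (hS : IsSylowIn p S K)
    (hKS : K ≤ Subgroup.normalizer (S : Set G)) : M ≤ Subgroup.normalizer (S : Set G) := by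
  intro m hm
  apply mem_normalizer_of_map_conj_eq
  have h1 : cj m S ≤ K := by
    have := cj_mono m hS.1
    rwa [show cj m K = K from map_conj_eq_self_of_mem_normalizer (hMK hm)] at this
  obtain ⟨n, hn, hle⟩ := hS.exists_conj_le h1 (isPGroup_map_conj _ hS.2.1)
  have h2 : cj m S ≤ S := by
    have h3 := cj_mono n⁻¹ hle
    rw [cj_inv_cj] at h3
    rwa [show cj n⁻¹ S = S from map_conj_eq_self_of_mem_normalizer
      (Subgroup.inv_mem _ (hKS hn))] at h3
  exact cj_eq_of_le_of_card h2 le_rfl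

/-- every maximal subgroup `L` containing a nonabelian `p`-subgroup has `p ∈ σ(L)`. -/
theorem sigma_of_nonabelian [Finite G] (hG : Cfsg.IsMinSimpleOddOrder G) (hU : UT G)
    (h17 : H1417b G) {p : ℕ} [Fact p.Prime] {P : Subgroup G} (hP : IsPGroup p P)
    (hna : ¬ IsMulCommutative P) {L : Subgroup G} (hL : IsCoatom L) (hPL : P ≤ L) :
    p ∈ Cfsg.sigma L := by
  have hpp : p.Prime := Fact.out
  by_contra hn
  have hnc : ¬ IsCyclic P := fun h => hna (by haveI := h; exact IsCyclic.isMulCommutative)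
  have hP1 : P ≠ ⊥ := by
    rintro rfl
    exact hnc inferInstance
  have hp2 : p ≠ 2 := by
    obtain ⟨k, hk⟩ := IsPGroup.iff_card.1 hP
    apply MS_prime_ne_two hG (H := P)
    rw [hk]
    apply dvd_pow_self
    rintro rfl
    rw [pow_zero] at hk
    exact hP1 (Subgroup.card_eq_one.1 hk)
  obtain ⟨A, hAP, hAe, hAc⟩ := exists_elemAb_sq_of_not_isCyclic hp2 hP hnc
  have hr1 : ¬ Cfsg.PRankLE p 1 L := not_pRankLE_of_le (hAP.trans hPL) hAe.1 hAe.2 (by
    rw [hAc]; exact Nat.pow_lt_pow_right hpp.one_lt (by norm_num))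
  have hr2 : Cfsg.PRankLE p 2 L := by
    by_contra hr
    exact hn (alpha_subset_sigma hG hU hL ⟨hpp, hr⟩)
  obtain ⟨Q, hQ, hPQ⟩ := exists_isSylowIn_ge hPL hP
  have h1 := h17 L hL p ⟨hpp, hn, hr2, hr1⟩ hQ.toSylow
  rw [hQ.coe_toSylow] at h1
  apply hna
  refine ⟨⟨fun a b => Subtype.ext ?_⟩⟩
  have := h1.is_comm.comm ⟨⟨a.1, hPL a.2⟩, Subgroup.mem_subgroupOf.2 (hPQ a.2)⟩
    ⟨⟨b.1, hPL b.2⟩, Subgroup.mem_subgroupOf.2 (hPQ b.2)⟩
  exact congrArg (fun t => ((t : L) : G)) (congrArg Subtype.val this)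

/-- `C_G(Z) ≤ L` for every maximal subgroup `L` containing `N_G(S)`. -/
theorem cent_zen_le [Finite G] (hG : Cfsg.IsMinSimpleOddOrder G) (hPL : PL1 G) (h16 : H1416a G)
    {p : ℕ} [Fact p.Prime] {S P₁ : Subgroup G} (hS : IsSylowIn p S ⊤) (hP₁ : Cube p P₁)
    (hP₁S : P₁ ≤ S) (hSZ : S ≤ Subgroup.centralizer (zen P₁ : Set G)) {L : Subgroup G}
    (hL : IsCoatom L) (hNL : Subgroup.normalizer (S : Set G) ≤ L) :
    Subgroup.centralizer (zen P₁ : Set G) ≤ L := by
  have hpp : p.Prime := Fact.out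
  have hSL : S ≤ L := Subgroup.le_normalizer.trans hNL
  set Z := zen P₁ with hZ
  have hZ1 : Z ≠ ⊥ := by
    intro h
    have := hP₁.card_zen
    rw [← hZ, h, Subgroup.card_bot] at this
    exact hpp.one_lt.ne this
  have hZpg : IsPGroup p Z := IsPGroup.of_card (n := 1) (by rw [pow_one]; exact hP₁.card_zen)
  have hCtop : Subgroup.centralizer (Z : Set G) ≠ ⊤ := ne_top_of_le_ne_top
    (MS_normalizer_ne_top hG hZ1 (MS_isPGroup_ne_top hG hZpg)) (centralizer_le_normalizer' Z)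
  obtain ⟨K, hKC, hCK, hKc, hfr⟩ := exists_frattini_of_pLength_one p (hPL p _ hCtop)
    (hS.of_le hSZ le_top)
  have hKL : K ≤ L := by
    apply le_of_forall_centralizer_le (Z := Z) (P₁ := P₁) inf_le_left inf_le_right
      (Subgroup.le_centralizer_iff.1 hKC) ((hP₁S.trans hSZ).trans hCK)
      (by rw [hP₁.card]; exact (Nat.Coprime.pow_left 3 hKc.symm)) hP₁.commutator_le hP₁.nonab
    intro a ha haZ y hy
    apply h16 L hL p (Z ⊔ Subgroup.zpowers a)
      ⟨((hP₁.sup_le ha).trans hP₁S).trans hSL, hP₁.sup_elem ha, hP₁.card_sup ha haZ⟩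
    have h1 : Z ⊔ Subgroup.zpowers a ≤ Subgroup.centralizer ({y} : Set G) := by
      apply sup_le
      · intro z hz
        exact Subgroup.mem_centralizer_singleton_iff.2
          ((Subgroup.mem_centralizer_iff.1 (hKC hy.1) z hz))
      · rw [Subgroup.zpowers_le]
        exact Subgroup.mem_centralizer_singleton_iff.2
          (Subgroup.mem_centralizer_singleton_iff.1 hy.2).symm
    apply Subgroup.mem_centralizer_iff.2
    intro h hh
    exact (Subgroup.mem_centralizer_singleton_iff.1 (h1 hh))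
  intro n hn
  obtain ⟨k, hk, m, hm, rfl⟩ := hfr n hn
  exact L.mul_mem (hKL hk) (hNL hm.2)

/-- **BG Theorem 12.13** (S1422). -/
theorem nonabelian_uniqueness [Finite G] (hG : Cfsg.IsMinSimpleOddOrder G) (hU : UT G)
    (hPL : PL1 G) (h12 : H1412 G) (h16 : H1416 G) (h17 : H1417b G) {p : ℕ} [Fact p.Prime]
    {P : Subgroup G} (hP : IsPGroup p P) (hna : ¬ IsMulCommutative P) :
    Cfsg.InUniqueMaximal P := by
  have hpp : p.Prime := Fact.out
  obtain ⟨M, hM, hPM⟩ := exists_coatom_ge (MS_isPGroup_ne_top hG hP)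
  refine ⟨M, ⟨hM, hPM⟩, ?_⟩
  rintro H ⟨hH, hPH⟩
  by_contra hne
  have hpM := sigma_of_nonabelian hG hU h17 hP hna hM hPM
  have hpH := sigma_of_nonabelian hG hU h17 hP hna hH hPH
  obtain ⟨S, hS, hPS⟩ := exists_isSylowIn_ge (le_inf hPM hPH) hP
  have hSna : ¬ IsMulCommutative S := fun h => hna (isMulCommutative_of_le hPS h)
  have hSnc : ¬ IsCyclic S := fun h => hSna (by haveI := h; exact IsCyclic.isMulCommutative)
  have hSM : S ≤ M := hS.1.trans inf_le_left
  have hSH : S ≤ H := hS.1.trans inf_le_right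
  have hNM := norm_noncyclic_sigma hG hU h16.a hM hpM hS.2.1 hSM hSnc
  have hNH := norm_noncyclic_sigma hG hU h16.a hH hpH hS.2.1 hSH hSnc
  have hSsM : IsSylowIn p S M := isSylowIn_of_normalizer_le hS inf_le_left
    (fun y hy => ⟨hy.1, hNH hy.2⟩)
  have hSsH : IsSylowIn p S H := isSylowIn_of_normalizer_le hS inf_le_right
    (fun y hy => ⟨hNM hy.2, hy.1⟩)
  have hStop : IsSylowIn p S ⊤ := sigma_isSylowIn_top hpM hSsM
  by_cases hr : Cfsg.PRankLE p 2 S
  swap
  · exact hne (eq_of_inUniqueMaximal (hU.of_rank3 hpp (MS_isPGroup_ne_top hG hS.2.1) hr) hM hSM hH hSH)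
  obtain ⟨Q, hQ⟩ := hS.2.1.exists_le_sylow
  have hSQ : S = (Q : Subgroup G) := hStop.eq_of_le le_top Q.2 hQ
  have h12' := h12 p Q (by rw [← hSQ]; exact hr)
  rw [← hSQ] at h12'
  rcases h12' with h | ⟨P₁, P₂, hsup, hcomm, hna1, hc1, hexp, -, -⟩
  · exact hSna h
  have hcube : Cube p P₁ := ⟨hc1, hna1, fun x hx => by
    have h1 : (⟨x, hx⟩ : P₁) ^ Monoid.exponent P₁ = 1 := Monoid.pow_exponent_eq_one _
    rw [hexp] at h1
    exact congrArg Subtype.val h1⟩
  have hP₁S : P₁ ≤ S := hsup ▸ le_sup_left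
  have hSZ : S ≤ Subgroup.centralizer (zen P₁ : Set G) := by
    rw [← hsup]
    apply sup_le
    · exact Subgroup.le_centralizer_iff.1 inf_le_right
    · intro b hb
      apply Subgroup.mem_centralizer_iff.2
      intro z hz
      exact hcomm z hz.1 b hb
  have hZpg : IsPGroup p (zen P₁) := IsPGroup.of_card (n := 1) (by rw [pow_one]; exact hcube.card_zen)
  have hNZ : ∀ L : Subgroup G, IsCoatom L → p ∈ Cfsg.sigma L → Subgroup.normalizer (S : Set G) ≤ L →
      Subgroup.normalizer (zen P₁ : Set G) ≤ L := by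
    intro L hL hpL hNL
    rw [sigma_normalizer_eq hG hU hL hpL hZpg
      ((inf_le_left.trans hP₁S).trans (Subgroup.le_normalizer.trans hNL))]
    exact sup_le inf_le_left (cent_zen_le hG hPL h16.a hStop hcube hP₁S hSZ hL hNL)
  obtain ⟨x, hx, hxZ⟩ := hcube.exists_not_mem
  have hAS : zen P₁ ⊔ Subgroup.zpowers x ≤ S := (hcube.sup_le hx).trans hP₁S
  -- the dichotomy of S1416(b)
  have dich : ∀ L L' : Subgroup G, IsCoatom L → IsCoatom L' → IsSylowIn p S L → p ∈ Cfsg.sigma L →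
      Subgroup.normalizer (S : Set G) ≤ L' → L ≠ L' →
      ∃ A₀ : Subgroup G, A₀ ≤ zen P₁ ⊔ Subgroup.zpowers x ∧ Nat.card A₀ = p ∧
        Subgroup.normalizer (A₀ : Set G) ≤ L ∧
        ∀ L'' : Subgroup G, IsCoatom L'' → Subgroup.normalizer (A₀ : Set G) ≤ L'' → L'' = L := by
    intro L L' hL hL' hSL hpL hNL' hLL'
    by_contra hcon
    push Not at hcon
    obtain ⟨-, -, hnil⟩ := (h16 L hL p (zen P₁ ⊔ Subgroup.zpowers x)
      ⟨hAS.trans hSL.1, hcube.sup_elem hx, hcube.card_sup hx hxZ⟩).2 (by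
        rintro A₀ hA₀ hc ⟨h1, h2⟩
        obtain ⟨L'', hL'', h3, h4⟩ := hcon A₀ hA₀ hc h1
        exact h4 (h2 L'' hL'' h3))
    have hSsc : IsSylowIn p S (Cfsg.sigmaCore L) :=
      hSL.of_le (le_sc hG hU hL hpL hSL.1 hSL.2.1) (sc_le L)
    have h5 : L ≤ Subgroup.normalizer (S : Set G) :=
      le_normalizer_of_normal_sylow (sc_norm L) hSsc (le_normalizer_of_nilpotent hnil hSsc)
    exact hLL' (eq_of_coatom_le hL hL' (h5.trans hNL'))
  obtain ⟨A₀, hA₀, c₀, hN₀, hu₀⟩ := dich M H hM hH hSsM hpM hNH (Ne.symm hne)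
  obtain ⟨A₁, hA₁, c₁, hN₁, hu₁⟩ := dich H M hH hM hSsH hpH hNM hne
  by_cases e₀ : A₀ = zen P₁
  · exact hne (hu₀ H hH (by rw [e₀]; exact hNZ H hH hpH hNH))
  by_cases e₁ : A₁ = zen P₁
  · exact hne (hu₁ M hM (by rw [e₁]; exact hNZ M hM hpM hNM)).symm
  obtain ⟨s, hs, hsA⟩ := hcube.exists_cj_eq hx hxZ hA₀ c₀ e₀ hA₁ c₁ e₁
  apply hne
  symm
  apply hu₁ M hM
  rw [← hsA, normalizer_map_conj]
  calc cj s (Subgroup.normalizer (A₀ : Set G)) ≤ cj s M := cj_mono s hN₀
    _ = M := map_conj_eq_self_of_mem (hSM (hP₁S hs))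

end Cfsg.Agent.Lib.Helper9.BG12
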