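/-
Helper library (helper9): Bender–Glauberman Corollary 12.14/12.15 (S1423): tools.
-/
import Cfsg.Agent.Lib.Helper9.BG12c
import Cfsg.Agent.Lib.Helper34.Basic
import Cfsg.Agent.S1452
import Cfsg.Agent.S1453
import Cfsg.Agent.S1460

set_option autoImplicit false
set_option linter.unusedSimpArgs false
set_option linter.unusedVariables false
set_option linter.style.haveILetI false
set_option linter.unusedSectionVars false

namespace Cfsg.Agent.Lib.Helper9.BG12

open Cfsg Cfsg.Agent.Lib.Helper34 Cfsg.Agent.Lib.Helper24 Cfsg.Agent.Lib.Helper31.BG11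
open scoped commutatorElement

universe u

variable {G : Type u} [Group G]

theorem inUniqueMaximal_cj_of_mem {S M : Subgroup G} (hS : Cfsg.InUniqueMaximal S) (hM : IsCoatom M)
    (hSM : S ≤ M) {m : G} (hm : m ∈ M) : Cfsg.InUniqueMaximal (cj m S) := by
  have hmM : cj m M = M := map_conj_eq_self_of_mem hm
  refine ⟨M, ⟨hM, by rw [← hmM]; exact cj_mono m hSM⟩, ?_⟩
  rintro L ⟨hL, hSL⟩
  have h1 : S ≤ cj m⁻¹ L := by
    have := cj_mono m⁻¹ hSL
    rwa [cj_inv_cj] at this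
  have h2 := eq_of_inUniqueMaximal hS hM hSM (isCoatom_cj hL m⁻¹) h1
  have h3 : L = cj m (cj m⁻¹ L) := (cj_cj_inv m L).symm
  rw [h3, h2, hmM]

theorem closure_omega_normal {R : Type*} [Group R] (N : Subgroup R) [hN : N.Normal] (p : ℕ) :
    (Subgroup.closure {x : R | x ∈ N ∧ x ^ p = 1}).Normal := by
  refine ⟨fun n hn g => ?_⟩
  induction hn using Subgroup.closure_induction with
  | mem x hx =>
    apply Subgroup.subset_closure
    exact ⟨hN.conj_mem x hx.1 g, by rw [conj_pow, hx.2]; simp⟩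
  | one => simp
  | mul x y _ _ hx hy =>
    have : g * (x * y) * g⁻¹ = (g * x * g⁻¹) * (g * y * g⁻¹) := by group
    rw [this]; exact Subgroup.mul_mem _ hx hy
  | inv x _ hx =>
    have : g * x⁻¹ * g⁻¹ = (g * x * g⁻¹)⁻¹ := by group
    rw [this]; exact Subgroup.inv_mem _ hx

/-- In a narrow `p`-group of rank at least 3, every element of order `p` of the derived subgroup
centralizes a subgroup of rank at least 3. -/
theorem narrow_cent_rank3 {R : Type*} [Group R] [Finite R] (p : ℕ) [Fact p.Prime] (hp : p ≠ 2)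
    (hR : IsPGroup p R) (hr : ¬ Cfsg.PRankLE p 2 R) (E : Subgroup R)
    (hE : Cfsg.IsElementaryAbelian p E) (hE2 : Nat.card E = p ^ 2)
    (hEmax : ∀ B : Subgroup R, Cfsg.IsElementaryAbelian p B → E ≤ B → B = E)
    (x : R) (hx : x ∈ commutator R) (hxp : x ^ p = 1) :
    ∃ B : Subgroup R, ¬ Cfsg.PRankLE p 2 B ∧ B ≤ Subgroup.centralizer {x} := by
  have hpp : p.Prime := Fact.out
  obtain ⟨-, -, ⟨hWe, hWc⟩, hTchar, hTi⟩ := Cfsg.Agent.S1453.result p hp hR hr E hE hE2 hEmax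
  set W := Subgroup.closure {x : R | x ∈ Subgroup.upperCentralSeries R 2 ∧ x ^ p = 1} with hW
  haveI : W.Normal := closure_omega_normal _ p
  haveI := hTchar
  have hcard : Nat.card (R ⧸ Subgroup.centralizer (W : Set R)) = p := by
    rw [← Subgroup.index_eq_card, hTi]
  haveI : IsCyclic (R ⧸ Subgroup.centralizer (W : Set R)) := isCyclic_of_prime_card hcard
  have h3 : IsMulCommutative (R ⧸ Subgroup.centralizer (W : Set R)) := IsCyclic.isMulCommutative
  have hle : commutator R ≤ Subgroup.centralizer (W : Set R) :=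
    (Subgroup.Normal.quotient_commutative_iff_commutator_le).mp h3
  have hxT := hle hx
  by_cases hxW : x ∈ W
  · obtain ⟨A, hWA, -, hAc, hA3⟩ := Cfsg.Agent.S1452.result p hp hR hr W hWe hWc
    refine ⟨A, hA3, ?_⟩
    intro a ha
    have h4 : a ∈ Subgroup.centralizer (A : Set R) := by rw [hAc]; exact ha
    exact Subgroup.mem_centralizer_singleton_iff.2 (Subgroup.mem_centralizer_iff.1 h4 x (hWA hxW)).symm
  · have hBe := elemAb_sup_zpowers hWe hxT hxp
    have hlt : W < W ⊔ Subgroup.zpowers x := lt_of_le_of_ne le_sup_left (fun he => hxW (by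
      rw [he]; exact (le_sup_right : Subgroup.zpowers x ≤ _) (Subgroup.mem_zpowers x)))
    refine ⟨W ⊔ Subgroup.zpowers x, not_pRankLE_of_le le_rfl hBe.1 hBe.2 (by
      rw [← hWc]; exact card_lt_of_lt hlt), ?_⟩
    intro b hb
    have hxB : x ∈ W ⊔ Subgroup.zpowers x :=
      (le_sup_right : Subgroup.zpowers x ≤ _) (Subgroup.mem_zpowers x)
    exact Subgroup.mem_centralizer_singleton_iff.2
      (congrArg Subtype.val (hBe.1.is_comm.comm ⟨b, hb⟩ ⟨x, hxB⟩))

theorem elemAb_subgroupOf {p : ℕ} {E : Subgroup G} (S : Subgroup G)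
    (hE : Cfsg.IsElementaryAbelian p E) : Cfsg.IsElementaryAbelian p (E.subgroupOf S) := by
  refine ⟨⟨⟨fun a b => Subtype.ext (Subtype.ext ?_)⟩⟩, fun a ha => Subtype.ext ?_⟩
  · have := congrArg Subtype.val (hE.1.is_comm.comm ⟨a.1.1, Subgroup.mem_subgroupOf.1 a.2⟩
      ⟨b.1.1, Subgroup.mem_subgroupOf.1 b.2⟩)
    exact this
  · exact hE.2 a.1 (Subgroup.mem_subgroupOf.1 ha)

theorem elemAb_map_subtype {p : ℕ} {S : Subgroup G} {B : Subgroup S}
    (hB : Cfsg.IsElementaryAbelian p B) : Cfsg.IsElementaryAbelian p (B.map S.subtype) := by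
  refine ⟨⟨⟨?_⟩⟩, ?_⟩
  · rintro ⟨_, x, hx, rfl⟩ ⟨_, y, hy, rfl⟩
    have := hB.1.is_comm.comm ⟨x, hx⟩ ⟨y, hy⟩
    have h2 : x * y = y * x := congrArg Subtype.val this
    apply Subtype.ext
    show S.subtype x * S.subtype y = S.subtype y * S.subtype x
    rw [← map_mul, ← map_mul, h2]
  · rintro _ ⟨x, hx, rfl⟩
    rw [← map_pow, hB.2 x hx, map_one]

/-- ambient form of `narrow_cent_rank3`. -/
theorem exists_rank3_centralizing [Finite G] {p : ℕ} [Fact p.Prime] (hp2 : p ≠ 2) {S : Subgroup G}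
    (hS : IsPGroup p S) (hr : ¬ Cfsg.PRankLE p 2 S) {E : Subgroup G} (hES : E ≤ S)
    (hE : Cfsg.IsElementaryAbelian p E) (hE2 : Nat.card E = p ^ 2)
    (hEmax : ∀ B : Subgroup G, B ≤ S → Cfsg.IsElementaryAbelian p B → E ≤ B → B = E)
    {x : G} (hx : x ∈ ⁅S, S⁆) (hxp : x ^ p = 1) :
    ∃ B : Subgroup G, B ≤ S ∧ ¬ Cfsg.PRankLE p 2 B ∧ B ≤ Subgroup.centralizer {x} := by
  rw [← Subgroup.map_subtype_commutator] at hx
  obtain ⟨y, hy, rfl⟩ := hx
  obtain ⟨B, hB3, hBc⟩ := narrow_cent_rank3 (R := S) p hp2 hS hr (E.subgroupOf S)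
    (elemAb_subgroupOf S hE) (by rw [Nat.card_congr (Subgroup.subgroupOfEquivOfLe hES).toEquiv, hE2])
    (by
      intro B hB hEB
      have h1 : E ≤ B.map S.subtype := by
        intro e he
        exact ⟨⟨e, hES he⟩, hEB (Subgroup.mem_subgroupOf.2 he), rfl⟩
      have h2 := hEmax _ (Subgroup.map_subtype_le B) (elemAb_map_subtype hB) h1
      rw [← h2, Subgroup.subgroupOf, Subgroup.comap_map_eq_self_of_injective S.subtype_injective])
    y hy (Subtype.ext hxp)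
  refine ⟨B.map S.subtype, Subgroup.map_subtype_le B, ?_, ?_⟩
  · intro h
    exact hB3 ((Cfsg.Agent.Lib.Helper23.pRankLE_congr p 2
      (B.equivMapOfInjective S.subtype S.subtype_injective)).2 h)
  · rintro _ ⟨b, hb, rfl⟩
    exact Subgroup.mem_centralizer_singleton_iff.2
      (congrArg Subtype.val (Subgroup.mem_centralizer_singleton_iff.1 (hBc hb)))

/-- If `p` is not ideal and the Sylow `p`-subgroup `S` has rank at least 3, then `S` has a maximal
elementary abelian subgroup of order `p ^ 2`. -/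
theorem exists_max_elemAb_sq [Finite G] {p : ℕ} [Fact p.Prime] {S : Subgroup G}
    (hS : IsSylowIn p S ⊤) (hr : ¬ Cfsg.PRankLE p 2 S) (hid : ¬ Cfsg.IsIdealPrime p G) :
    ∃ E : Subgroup G, E ≤ S ∧ Cfsg.IsElementaryAbelian p E ∧ Nat.card E = p ^ 2 ∧
      ∀ B : Subgroup G, B ≤ S → Cfsg.IsElementaryAbelian p B → E ≤ B → B = E := by
  have hpp : p.Prime := Fact.out
  have hrG : ¬ Cfsg.PRankLE p 2 G := fun h => hr ((pRankLE_iff S).2 fun F _ hc he => h F hc he)
  unfold Cfsg.IsIdealPrime at hid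
  push Not at hid
  obtain ⟨Q, A, hAQ, hAe, hAc, hAmax⟩ := hid hpp hrG
  obtain ⟨n, -, hn⟩ := isSylowIn_exists_cj_eq hS (Sylow.isSylowIn_top Q)
  have hcjE : ∀ (g : G) (B : Subgroup G), Cfsg.IsElementaryAbelian p B →
      Cfsg.IsElementaryAbelian p (cj g B) := by
    intro g B hB
    haveI := hB.1
    refine ⟨inferInstanceAs (IsMulCommutative (B.map _)), ?_⟩
    · rintro _ ⟨a, ha, rfl⟩
      rw [← map_pow, hB.2 a ha, map_one]
  refine ⟨cj n A, by rw [← hn]; exact cj_mono n hAQ, hcjE n A hAe, by rw [card_map_conj, hAc], ?_⟩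
  intro B hBS hBe hAB
  have h1 : cj n⁻¹ B ≤ Q := by
    have := cj_mono n⁻¹ hBS
    rwa [← hn, cj_inv_cj] at this
  have h2 : A ≤ cj n⁻¹ B := by
    have := cj_mono n⁻¹ hAB
    rwa [cj_inv_cj] at this
  have h3 : A = cj n⁻¹ B := by
    by_contra hne
    exact hAmax _ h1 (hcjE _ _ hBe) (lt_of_le_of_ne h2 hne)
  rw [h3, cj_cj_inv]

/-- If `K` has a normal `p`-complement, a `p`-subgroup of `K'` lies in the derived subgroup of some Sylow
`p`-subgroup of `K`. -/
theorem exists_sylow_commutator_ge [Finite G] {p : ℕ} [Fact p.Prime] {K X : Subgroup G}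
    (hKs : Group.IsSolvable K) (hnc : Cfsg.HasNormalPComplement p K) (hX : IsPGroup p X)
    (hXK : X ≤ ⁅K, K⁆) : ∃ S : Subgroup G, IsSylowIn p S K ∧ X ≤ ⁅S, S⁆ := by
  obtain ⟨P₀, N, hN, hc⟩ := hnc
  haveI := hN
  have hcop : (Nat.card (P₀ : Subgroup K)).Coprime (Nat.card N) := by
    rw [← hc.index_eq_card]
    exact P₀.card_coprime_index
  have h60 := (Cfsg.Agent.S1460.result N (P₀ : Subgroup K) (P₀ : Subgroup K) hc.sup_eq_top le_rfl hcop).1
  have hS₀ : IsSylowIn p ((P₀ : Subgroup K).map K.subtype) K := Sylow.isSylowIn_map P₀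
  set S₀ := (P₀ : Subgroup K).map K.subtype with hS₀def
  have hKK : ⁅K, K⁆ ≤ K := Subgroup.commutator_le_self K
  obtain ⟨k, hk, hle⟩ := hS₀.exists_conj_le (hXK.trans hKK) hX
  have hcjK : cj k K = K := map_conj_eq_self_of_mem hk
  have h1 : cj k X ≤ ⁅K, K⁆ := by
    have := cj_mono k hXK
    rwa [show cj k ⁅K, K⁆ = ⁅cj k K, cj k K⁆ from Subgroup.map_commutator _ _ _, hcjK] at this
  have h2 : cj k X ≤ ⁅S₀, S₀⁆ := by
    intro y hy
    obtain ⟨y₀, hy₀, hyy⟩ := hle hy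
    have h3 : y₀ ∈ commutator K := by
      have h4 := h1 hy
      rw [← Subgroup.map_subtype_commutator] at h4
      obtain ⟨y₁, hy₁, hyy₁⟩ := h4
      have : y₁ = y₀ := K.subtype_injective (hyy₁.trans hyy.symm)
      rwa [← this]
    have h5 : y₀ ∈ (P₀ : Subgroup K) ⊓ ⁅(P₀ : Subgroup K), (P₀ : Subgroup K)⁆ := by
      rw [← h60]; exact ⟨hy₀, h3⟩
    rw [hS₀def, ← Subgroup.map_commutator, ← hyy]
    exact ⟨y₀, h5.2, rfl⟩
  refine ⟨cj k⁻¹ S₀, ?_, ?_⟩
  · have := hS₀.map_conj k⁻¹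
    rwa [show K.map (MulAut.conj k⁻¹).toMonoidHom = K from
      map_conj_eq_self_of_mem (K.inv_mem hk)] at this
  · have := cj_mono k⁻¹ h2
    rwa [cj_inv_cj, show cj k⁻¹ ⁅S₀, S₀⁆ = ⁅cj k⁻¹ S₀, cj k⁻¹ S₀⁆ from
      Subgroup.map_commutator _ _ _] at this

/-- central products `S = P₁ ∘ P₂` with `P₂` abelian. -/
theorem commutator_le_zen_of_central_product {p : ℕ} [Fact p.Prime] {S P₁ P₂ : Subgroup G}
    (hsup : P₁ ⊔ P₂ = S) (hcomm : ∀ a ∈ P₁, ∀ b ∈ P₂, a * b = b * a) (hcube : Cube p P₁)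
    (hP₂ : IsCyclic P₂) : ⁅S, S⁆ ≤ zen P₁ := by
  have hP₂c : ∀ b ∈ P₂, ∀ b' ∈ P₂, b * b' = b' * b := by
    intro b hb b' hb'
    haveI := hP₂
    have h : IsMulCommutative P₂ := IsCyclic.isMulCommutative
    exact congrArg Subtype.val (h.is_comm.comm ⟨b, hb⟩ ⟨b', hb'⟩)
  rw [Subgroup.commutator_le]
  intro g₁ hg₁ g₂ hg₂
  rw [← hsup] at hg₁ hg₂
  obtain ⟨a, ha, b, hb, rfl⟩ := exists_mul_of_mem_sup_of_commute hcomm hg₁
  obtain ⟨a', ha', b', hb', rfl⟩ := exists_mul_of_mem_sup_of_commute hcomm hg₂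
  have h1 : ⁅a * b, a' * b'⁆ = ⁅a, a'⁆ := by
    rw [commutatorElement_def, commutatorElement_def]
    have e1 : b * a' = a' * b := (hcomm a' ha' b hb).symm
    have e2 : b * b' = b' * b := hP₂c b hb b' hb'
    have e3 : b' * a⁻¹ = a⁻¹ * b' := (hcomm a⁻¹ (P₁.inv_mem ha) b' hb').symm
    have e4 : b' * a'⁻¹ = a'⁻¹ * b' := (hcomm a'⁻¹ (P₁.inv_mem ha') b' hb').symm
    calc a * b * (a' * b') * (a * b)⁻¹ * (a' * b')⁻¹
        = a * (b * a') * b' * b⁻¹ * a⁻¹ * b'⁻¹ * a'⁻¹ := by group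
      _ = a * a' * (b * b') * b⁻¹ * a⁻¹ * b'⁻¹ * a'⁻¹ := by rw [e1]; group
      _ = a * a' * (b' * a⁻¹) * b'⁻¹ * a'⁻¹ := by rw [e2]; group
      _ = a * a' * a⁻¹ * a'⁻¹ := by rw [e3]; group
  rw [h1]
  exact hcube.comm_mem ha ha'

theorem le_centralizer_zen_of_central_product {S P₁ P₂ : Subgroup G}
    (hsup : P₁ ⊔ P₂ = S) (hcomm : ∀ a ∈ P₁, ∀ b ∈ P₂, a * b = b * a) :
    S ≤ Subgroup.centralizer (zen P₁ : Set G) := by
  rw [← hsup]
  apply sup_le
  · exact Subgroup.le_centralizer_iff.1 inf_le_right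
  · intro b hb
    apply Subgroup.mem_centralizer_iff.2
    intro z hz
    exact hcomm z hz.1 b hb

end Cfsg.Agent.Lib.Helper9.BG12
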