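/-
Helper library (helper9): Bender–Glauberman Corollary 12.14/12.15 (S1423): main argument.
-/
import Cfsg.Agent.Lib.Helper9.BG12d

set_option autoImplicit false
set_option linter.unusedSimpArgs false
set_option linter.unusedVariables false
set_option linter.style.haveILetI false
set_option linter.unusedSectionVars false

namespace Cfsg.Agent.Lib.Helper9.BG12

open Cfsg Cfsg.Agent.Lib.Helper34 Cfsg.Agent.Lib.Helper24 Cfsg.Agent.Lib.Helper31.BG11
open scoped commutatorElement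

universe u

variable {G : Type u} [Group G]

/-- the pending rows used in the second half of BG Section 12. -/
structure Rows (G : Type u) [Group G] : Prop where
  ms : Cfsg.IsMinSimpleOddOrder G
  ut : UT G
  pl : PL1 G
  h12 : H1412 G
  h14 : H1414 G
  h16 : H1416 G
  h17 : H1417b G

theorem MS_centralizer_ne_top (hG : Cfsg.IsMinSimpleOddOrder G) {X : Subgroup G} (h1 : X ≠ ⊥)
    (h2 : X ≠ ⊤) : Subgroup.centralizer (X : Set G) ≠ ⊤ :=
  ne_top_of_le_ne_top (MS_normalizer_ne_top hG h1 h2) (centralizer_le_normalizer' X)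

/-- the core of S1423: a Sylow `p`-subgroup `S` of `M` in `𝒰` and a uniqueness subgroup `W ≤ C_M(X)`. -/
theorem cent_der_sigma_aux [Finite G] (R : Rows G) {M : Subgroup G} (hM : IsCoatom M) {p : ℕ}
    [Fact p.Prime] (hp : p ∈ Cfsg.sigma M) {X : Subgroup G} (hXM : X ≤ M) (hX : Nat.card X = p)
    (h : p ∈ Cfsg.beta M ∨ X ≤ ⁅Cfsg.sigmaCore M, Cfsg.sigmaCore M⁆) :
    (∃ S : Subgroup G, IsSylowIn p S M ∧ Cfsg.InUniqueMaximal S) ∧
      ∃ W : Subgroup G, W ≤ Subgroup.centralizer (X : Set G) ∧ W ≤ M ∧ Cfsg.InUniqueMaximal W := by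
  have hpp : p.Prime := Fact.out
  have hG := R.ms
  have hU := R.ut
  have hp2 : p ≠ 2 := sigma_ne_two hG hp
  have hXe := isElementaryAbelian_of_card_prime hX
  have hXpg : IsPGroup p X := isPGroup_of_exponent hXe.2
  have hX1 : X ≠ ⊥ := by
    rintro rfl
    rw [Subgroup.card_bot] at hX
    exact hpp.one_lt.ne hX
  by_cases hid : Cfsg.IsIdealPrime p G
  · -- `p` is ideal
    obtain ⟨S, hS, hXS⟩ := exists_isSylowIn_ge hXM hXpg
    have hStop := sigma_isSylowIn_top hp hS
    have hStt : S ≠ ⊤ := MS_isPGroup_ne_top hG hS.2.1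
    have hrS : ¬ Cfsg.PRankLE p 2 S := by
      intro hr
      apply hid.2.1
      have h1 := pRankLE_of_isSylowIn hStop hr
      exact (Cfsg.Agent.Lib.Helper23.pRankLE_congr p 2 Subgroup.topEquiv).1 h1
    have hSU := hU.of_rank3 hpp hStt hrS
    refine ⟨⟨S, hS, hSU⟩, ?_⟩
    have hS1 : S ≠ ⊥ := fun h0 => hX1 (le_bot_iff.1 (h0 ▸ hXS))
    obtain ⟨z, hzS, hzc, hz1, hzp⟩ := exists_central_order_p hS.2.1 hS1
    by_cases hzX : z ∈ X
    · refine ⟨S, ?_, hS.1, hSU⟩
      rw [centralizer_eq_of_card_prime hpp hX hzX hz1]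
      intro s hs
      exact Subgroup.mem_centralizer_singleton_iff.2 (Subgroup.mem_centralizer_iff.1 hzc s hs)
    · have hAe := elemAb_sup_zpowers hXe (Subgroup.centralizer_le hXS hzc) hzp
      set A := X ⊔ Subgroup.zpowers z with hA
      have hXA : X ≤ A := le_sup_left
      have hAS : A ≤ S := sup_le hXS (Subgroup.zpowers_le.2 hzS)
      have hlt : X < A := lt_of_le_of_ne hXA (fun he => hzX (by
        rw [he]; exact (le_sup_right : Subgroup.zpowers z ≤ _) (Subgroup.mem_zpowers z)))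
      have hBex : ∃ B : Subgroup G, B ≤ S ∧ Cfsg.IsElementaryAbelian p B ∧ X ≤ B ∧
          p ^ 2 < Nat.card B := by
        by_cases hc : Nat.card A = p ^ 2
        · obtain ⟨Q, hQ⟩ := hS.2.1.exists_le_sylow
          have hSQ : S = (Q : Subgroup G) := hStop.eq_of_le le_top Q.2 hQ
          obtain ⟨B, hBQ, hBe, hAB⟩ := hid.2.2 Q A (hSQ ▸ hAS) hAe hc
          exact ⟨B, hSQ ▸ hBQ, hBe, hXA.trans hAB.le, by rw [← hc]; exact card_lt_of_lt hAB⟩
        · refine ⟨A, hAS, hAe, hXA, ?_⟩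
          have c1 := card_lt_of_lt hlt
          rw [hX] at c1
          have c2 := pow_succ_le_card_of_lt (k := 1) (isPGroup_of_exponent hAe.2) (by rwa [pow_one])
          exact lt_of_le_of_ne c2 (Ne.symm hc)
      obtain ⟨B, hBS, hBe, hXB, hBc⟩ := hBex
      exact ⟨B, le_centralizer_of_comm hBe.1 hXB, hBS.trans hS.1,
        hU.of_rank3 hpp (MS_isPGroup_ne_top hG (isPGroup_of_exponent hBe.2))
          (not_pRankLE_of_le le_rfl hBe.1 hBe.2 hBc)⟩
  · -- `p` is not ideal
    have hnb : p ∉ Cfsg.beta M := fun hb => hid hb.2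
    have hXd := h.resolve_left hnb
    haveI hsolv : Group.IsSolvable (Cfsg.sigmaCore M) :=
      MS_solvable hG (ne_top_of_le_ne_top hM.1 (sc_le M))
    obtain ⟨S, hSsc, hXS'⟩ := exists_sylow_commutator_ge hsolv (R.h14 M hM p hpp hp.2.1 hnb) hXpg hXd
    have hS : IsSylowIn p S M := sc_sylow hG hU hM hp hSsc
    have hStop := sigma_isSylowIn_top hp hS
    have hSna : ¬ IsMulCommutative S := by
      intro hc
      apply hX1
      rw [← le_bot_iff]
      refine hXS'.trans (le_of_eq ?_)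
      exact Subgroup.commutator_eq_bot_iff_le_centralizer.2
        (Subgroup.le_centralizer_iff_isMulCommutative.2 hc)
    have hSU := nonabelian_uniqueness hG hU R.pl R.h12 R.h16 R.h17 hS.2.1 hSna
    refine ⟨⟨S, hS, hSU⟩, ?_⟩
    by_cases hr : Cfsg.PRankLE p 2 S
    · obtain ⟨Q, hQ⟩ := hS.2.1.exists_le_sylow
      have hSQ : S = (Q : Subgroup G) := hStop.eq_of_le le_top Q.2 hQ
      have h12' := R.h12 p Q (by rw [← hSQ]; exact hr)
      rw [← hSQ] at h12'
      rcases h12' with h0 | ⟨P₁, P₂, hsup, hcomm, hna1, hc1, hexp, hcyc, -⟩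
      · exact absurd h0 hSna
      have hcube : Cube p P₁ := ⟨hc1, hna1, fun x hx => by
        have h1 : (⟨x, hx⟩ : P₁) ^ Monoid.exponent P₁ = 1 := Monoid.pow_exponent_eq_one _
        rw [hexp] at h1
        exact congrArg Subtype.val h1⟩
      refine ⟨S, ?_, hS.1, hSU⟩
      exact (le_centralizer_zen_of_central_product hsup hcomm).trans
        (Subgroup.centralizer_le (hXS'.trans (commutator_le_zen_of_central_product hsup hcomm hcube hcyc)))
    · obtain ⟨E, hES, hEe, hEc, hEmax⟩ := exists_max_elemAb_sq hStop hr hid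
      obtain ⟨x, hx, hx1⟩ := exists_ne_one_of_card_prime hpp hX
      obtain ⟨B, hBS, hB3, hBc⟩ := exists_rank3_centralizing hp2 hS.2.1 hr hES hEe hEc hEmax
        (hXS' hx) (hXe.2 x hx)
      refine ⟨B, ?_, hBS.trans hS.1, hU.of_rank3 hpp
        (ne_top_of_le_ne_top (MS_isPGroup_ne_top hG hS.2.1) hBS) hB3⟩
      rw [centralizer_eq_of_card_prime hpp hX hx hx1]
      exact hBc

/-- **BG Corollary 12.14** (S1423), ambient form. -/
theorem cent_der_sigma_uniq [Finite G] (R : Rows G) {M : Subgroup G} (hM : IsCoatom M) {p : ℕ}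
    [Fact p.Prime] (hp : p ∈ Cfsg.sigma M) {X : Subgroup G} (hXM : X ≤ M) (hX : Nat.card X = p)
    (h : p ∈ Cfsg.beta M ∨ X ≤ ⁅Cfsg.sigmaCore M, Cfsg.sigmaCore M⁆) :
    (Subgroup.centralizer (X : Set G) ≤ M ∧
      ∀ L : Subgroup G, IsCoatom L → Subgroup.centralizer (X : Set G) ≤ L → L = M) ∧
      ∀ P : Subgroup G, IsSylowIn p P M → Cfsg.InUniqueMaximal P := by
  have hpp : p.Prime := Fact.out
  obtain ⟨⟨S, hS, hSU⟩, W, hWC, hWM, hWU⟩ := cent_der_sigma_aux R hM hp hXM hX h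
  have hXpg : IsPGroup p X := IsPGroup.of_card (n := 1) (by rw [pow_one]; exact hX)
  have hX1 : X ≠ ⊥ := by
    rintro rfl
    rw [Subgroup.card_bot] at hX
    exact hpp.one_lt.ne hX
  have hCtop := MS_centralizer_ne_top R.ms hX1 (MS_isPGroup_ne_top R.ms hXpg)
  refine ⟨⟨le_of_inUniqueMaximal hWU hM hWM hCtop hWC, fun L hL hCL =>
    eq_of_inUniqueMaximal hWU hM hWM hL (hWC.trans hCL)⟩, ?_⟩
  intro P hP
  obtain ⟨m, hm, rfl⟩ := isSylowIn_exists_cj_eq hP hS
  exact inUniqueMaximal_cj_of_mem hSU hM hS.1 hm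

end Cfsg.Agent.Lib.Helper9.BG12
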