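/-
Helper library (helper9): Bender–Glauberman Lemma 12.17/12.18 (S1426).
-/
import Cfsg.Agent.Lib.Helper9.BG12e
import Cfsg.Agent.Lib.Helper23.ComplIn
import Cfsg.Agent.Lib.Helper23.Uniq6
import Cfsg.Agent.S1459

set_option autoImplicit false
set_option linter.unusedSimpArgs false
set_option linter.unusedVariables false
set_option linter.style.haveILetI false
set_option linter.unusedSectionVars false

namespace Cfsg.Agent.Lib.Helper9.BG12

open Cfsg Cfsg.Agent.Lib.Helper34 Cfsg.Agent.Lib.Helper24 Cfsg.Agent.Lib.Helper31.BG11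
open scoped commutatorElement

universe u

variable {G : Type u} [Group G]

/-- `M_σ ≤ M'`. -/
theorem sc_le_commutator [Finite G] (hG : Cfsg.IsMinSimpleOddOrder G) (hU : UT G) {M : Subgroup G}
    (hM : IsCoatom M) : Cfsg.sigmaCore M ≤ ⁅M, M⁆ := by
  by_contra hcon
  set D := ⁅M, M⁆ ⊓ Cfsg.sigmaCore M with hD
  have h1 : D.relIndex (Cfsg.sigmaCore M) ≠ 1 := by
    intro h
    exact hcon ((Subgroup.relIndex_eq_one.1 h).trans inf_le_left)
  obtain ⟨q, hq, hqd⟩ := Nat.exists_prime_and_dvd h1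
  haveI : Fact q.Prime := ⟨hq⟩
  have hqs : q ∈ Cfsg.sigma M := sc_primes M hq (hqd.trans (Subgroup.relIndex_dvd_card _ _))
  obtain ⟨Q, hQ, -⟩ := exists_isSylowIn_ge (bot_le : (⊥ : Subgroup G) ≤ Cfsg.sigmaCore M)
    (IsPGroup.of_bot (p := q))
  have hQD : Q ≤ D := le_inf (sigma_sylow_le_commutator hG hU hM hqs (sc_sylow hG hU hM hqs hQ)) hQ.1
  apply hQ.2.2
  rw [← Subgroup.relIndex_mul_relIndex Q D _ hQD inf_le_right]
  exact Dvd.dvd.mul_left hqd _

/-- **S1426 (a), (b)**: needs only landed rows. -/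
theorem sc_compl_action [Finite G] (hG : Cfsg.IsMinSimpleOddOrder G) (hU : UT G) {M : Subgroup G}
    (hM : IsCoatom M) {E : Subgroup G} (hE : Cfsg.IsComplIn E (Cfsg.sigmaCore M) M) :
    Cfsg.sigmaCore M ⊓ Subgroup.centralizer (E : Set G) ≤ ⁅Cfsg.sigmaCore M, Cfsg.sigmaCore M⁆ ∧
      ⁅Cfsg.sigmaCore M, E⁆ = Cfsg.sigmaCore M := by
  haveI := MS_solvable hG hM.1
  set K₀ := Cfsg.piCore (Cfsg.sigma M) M with hK₀
  have hsc : Cfsg.sigmaCore M = K₀.map M.subtype := rfl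
  set E' := E.subgroupOf M with hE'
  have hEmap : E'.map M.subtype = E := Subgroup.map_subgroupOf_eq_of_le hE.1
  have hcK : Nat.card K₀ = Nat.card (Cfsg.sigmaCore M) := by
    rw [hsc, Subgroup.card_map_of_injective M.subtype_injective]
  have hcE : Nat.card E' = Nat.card E := Nat.card_congr (Subgroup.subgroupOfEquivOfLe hE.1).toEquiv
  have hdisj : Disjoint K₀ E' := by
    rw [disjoint_iff, Subgroup.eq_bot_iff_forall]
    rintro x ⟨hx1, hx2⟩
    have h1 : (x : G) ∈ E ⊓ Cfsg.sigmaCore M := ⟨Subgroup.mem_subgroupOf.1 hx2, ⟨x, hx1, rfl⟩⟩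
    rw [hE.2.2.1, Subgroup.mem_bot] at h1
    exact Subtype.ext h1
  have hcompl : Subgroup.IsComplement' K₀ E' := Subgroup.isComplement'_of_card_mul_and_disjoint
    (by rw [hcK, hcE, mul_comm]; exact Cfsg.Agent.Lib.Helper23.complIn_card_mul hE) hdisj
  have hhall := sc_hall hG hU hM
  have hcop : (Nat.card K₀).Coprime K₀.index := by
    apply Nat.Coprime.symm
    apply Nat.coprime_of_dvd
    intro q hq hq1 hq2
    rw [hcK] at hq2
    rw [← relIndex_map_subtype] at hq1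
    exact hhall.2.2 q hq (hhall.2.1 q hq hq2) hq1
  have hle : K₀ ≤ commutator M := by
    intro k hk
    have h1 : (k : G) ∈ ⁅M, M⁆ := sc_le_commutator hG hU hM ⟨k, hk, rfl⟩
    rw [← Subgroup.map_subtype_commutator] at h1
    obtain ⟨y, hy, hyk⟩ := h1
    rwa [← M.subtype_injective hyk]
  obtain ⟨h1, h2⟩ := (Cfsg.Agent.S1459.result (G := M)).1 K₀ E' inferInstance hcop hcompl hle
  constructor
  · rintro x ⟨⟨k, hk, rfl⟩, hxc⟩
    have h3 : k ∈ Subgroup.centralizer (E' : Set M) := by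
      apply Subgroup.mem_centralizer_iff.2
      intro e he
      exact Subtype.ext (Subgroup.mem_centralizer_iff.1 hxc e (Subgroup.mem_subgroupOf.1 he))
    rw [hsc, ← Subgroup.map_commutator]
    exact ⟨k, h2 ⟨hk, h3⟩, rfl⟩
  · rw [hsc]
    conv_lhs => rw [← hEmap]
    rw [← Subgroup.map_commutator, ← h1]

theorem exists_card_prime_le [Finite G] {D : Subgroup G} {p : ℕ} (hp : p.Prime)
    (hd : p ∣ Nat.card D) : ∃ X : Subgroup G, X ≤ D ∧ Nat.card X = p := by
  haveI : Fact p.Prime := ⟨hp⟩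
  obtain ⟨x, hx⟩ := exists_prime_orderOf_dvd_card' (G := D) p hd
  refine ⟨Subgroup.zpowers (x : G), Subgroup.zpowers_le.2 x.2, ?_⟩
  rw [Nat.card_zpowers, Subgroup.orderOf_coe, hx]

/-- **S1426 (c)**. -/
theorem sc_inter_conj [Finite G] (R : Rows G) {M : Subgroup G} (hM : IsCoatom M) {g : G}
    (hg : g ∉ M) :
    IsCyclic ↥(Cfsg.sigmaCore M ⊓ cj g M) ∧
      (∀ p : ℕ, p.Prime → p ∣ Nat.card ↥(Cfsg.sigmaCore M ⊓ cj g M) → p ∉ Cfsg.beta M) ∧
      Cfsg.sigmaCore M ⊓ cj g M ⊓ ⁅Cfsg.sigmaCore M, Cfsg.sigmaCore M⁆ = ⊥ := by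
  have hG := R.ms
  have hU := R.ut
  set D := Cfsg.sigmaCore M ⊓ cj g M with hD
  have hDM : D ≤ M := inf_le_left.trans (sc_le M)
  have key : ∀ (p : ℕ) [Fact p.Prime] (Y : Subgroup G), Y ≤ D → IsPGroup p Y → Y ≠ ⊥ →
      p ∈ Cfsg.sigma M ∧ ¬ Subgroup.centralizer (Y : Set G) ≤ M := by
    intro p _ Y hYD hY hY1
    have hpp : p.Prime := Fact.out
    have hps : p ∈ Cfsg.sigma M := by
      apply sc_primes M hpp
      refine Dvd.dvd.trans ?_ (Subgroup.card_dvd_of_le (hYD.trans inf_le_left))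
      obtain ⟨k, hk⟩ := IsPGroup.iff_card.1 hY
      rw [hk]
      apply dvd_pow_self
      rintro rfl
      rw [pow_zero] at hk
      exact hY1 (Subgroup.card_eq_one.1 hk)
    refine ⟨hps, fun hc => hg ?_⟩
    obtain ⟨m, hm, c, hcc, hmc⟩ := sigma_conj hG hU hM hps hY (hYD.trans hDM)
      (le_cj_iff.1 (hYD.trans inf_le_right))
    have h1 : g⁻¹ ∈ M := by rw [hmc]; exact M.mul_mem hm (hc hcc)
    simpa using M.inv_mem h1
  have key2 : ∀ (p : ℕ), p.Prime → ∀ X : Subgroup G, X ≤ D → Nat.card X = p →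
      ¬ (p ∈ Cfsg.beta M ∨ X ≤ ⁅Cfsg.sigmaCore M, Cfsg.sigmaCore M⁆) := by
    intro p hp X hXD hX h
    haveI : Fact p.Prime := ⟨hp⟩
    have hX1 : X ≠ ⊥ := by
      rintro rfl
      rw [Subgroup.card_bot] at hX
      exact hp.one_lt.ne hX
    obtain ⟨hps, hnc⟩ := key p X hXD (IsPGroup.of_card (n := 1) (by rw [pow_one]; exact hX)) hX1
    exact hnc (cent_der_sigma_uniq R hM hps (hXD.trans hDM) hX h).1.1
  have h3 : D ⊓ ⁅Cfsg.sigmaCore M, Cfsg.sigmaCore M⁆ = ⊥ := by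
    by_contra hne
    have h1 : Nat.card (D ⊓ ⁅Cfsg.sigmaCore M, Cfsg.sigmaCore M⁆ : Subgroup G) ≠ 1 :=
      fun h => hne (Subgroup.card_eq_one.1 h)
    obtain ⟨p, hp, hpd⟩ := Nat.exists_prime_and_dvd h1
    obtain ⟨X, hX, hXc⟩ := exists_card_prime_le hp hpd
    exact key2 p hp X (hX.trans inf_le_left) hXc (Or.inr (hX.trans inf_le_right))
  refine ⟨?_, ?_, h3⟩
  · have hab : IsMulCommutative D := by
      apply Subgroup.le_centralizer_iff_isMulCommutative.1
      apply Subgroup.commutator_eq_bot_iff_le_centralizer.1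
      rw [← le_bot_iff, ← h3]
      exact le_inf (Subgroup.commutator_le_self D) (Subgroup.commutator_mono inf_le_left inf_le_left)
    have hrk : Cfsg.RankLE 1 D := by
      intro p hp
      haveI : Fact p.Prime := ⟨hp⟩
      by_contra hr
      obtain ⟨F, hFD, hFc, hFp, hFcard⟩ := exists_of_not_pRankLE hr
      rw [pow_one] at hFcard
      have hFpg : IsPGroup p F := isPGroup_of_exponent hFp
      have hp2 : p ≠ 2 := MS_prime_ne_two hG (H := F) (dvd_card_of_lt (k := 1) hFpg (by rwa [pow_one]))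
      obtain ⟨A, hAF, hAe, hAc⟩ := exists_elemAb_sq_of_not_isCyclic hp2 hFpg
        (Cfsg.Agent.Lib.Helper23U.not_isCyclic_of_elemAb hFp hFcard)
      have hA1 : A ≠ ⊥ := by
        rintro rfl
        rw [Subgroup.card_bot] at hAc
        exact (Nat.one_lt_pow (by norm_num) hp.one_lt).ne hAc
      exact (key p A (hAF.trans hFD) (isPGroup_of_exponent hAe.2) hA1).2
        (R.h16.a M hM p A ⟨(hAF.trans hFD).trans hDM, hAe, hAc⟩)
    haveI := isZGroup_of_rankLE_one (MS_odd hG D) hrk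
    haveI : Group.IsNilpotent D := by
      haveI := hab
      open scoped IsMulCommutative in infer_instance
    infer_instance
  · intro p hp hpd hb
    obtain ⟨X, hX, hXc⟩ := exists_card_prime_le hp hpd
    exact key2 p hp X hX hXc (Or.inl hb)

end Cfsg.Agent.Lib.Helper9.BG12
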