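/-
Helper library (helper9): Bender–Glauberman Corollary 12.17 (S1425): tools (Hall subgroups).
-/
import Cfsg.Agent.Lib.Helper9.BG12f
import Cfsg.Agent.Lib.Helper1.Hall
import Cfsg.Agent.Lib.Helper25.SZAmbient
import Cfsg.Agent.Lib.Helper24.U95a
import Cfsg.Agent.Lib.Helper47.Misc

set_option autoImplicit false
set_option linter.unusedSimpArgs false
set_option linter.unusedVariables false
set_option linter.style.haveILetI false
set_option linter.unusedSectionVars false

namespace Cfsg.Agent.Lib.Helper9.BG12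

open Cfsg Cfsg.Agent.Lib.Helper34 Cfsg.Agent.Lib.Helper24 Cfsg.Agent.Lib.Helper31.BG11
open scoped commutatorElement Pointwise

universe u

variable {G : Type u} [Group G]

theorem isSolvable_of_le' {D L : Subgroup G} (hL : Group.IsSolvable L) (hDL : D ≤ L) :
    Group.IsSolvable D := by
  haveI := hL
  exact Group.isSolvable_of_isSolvable_injective (f := Subgroup.inclusion hDL)
    (Subgroup.inclusion_injective hDL)

/-- In a solvable subgroup `L` of order `m n` (coprime), a subgroup `Y` of order prime to `n` is conjugate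
into any subgroup `D` whose order is divisible by `m`. -/
theorem hall_conj_into [Finite G] {L D Y : Subgroup G} (hL : Group.IsSolvable L) (hDL : D ≤ L)
    (hYL : Y ≤ L) {m n : ℕ} (hmn : Nat.card L = m * n) (hcop : m.Coprime n)
    (hmD : m ∣ Nat.card D) (hY : (Nat.card Y).Coprime n) : ∃ l ∈ L, cj l Y ≤ D := by
  haveI := hL
  haveI := isSolvable_of_le' hL hDL
  have hm0 : 0 < m := Nat.pos_of_ne_zero (by
    rintro rfl
    rw [zero_mul] at hmn
    exact Nat.card_pos.ne' hmn)
  obtain ⟨n', hn'⟩ := hmD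
  have hn'n : n' ∣ n := by
    have h1 := Subgroup.card_dvd_of_le hDL
    rw [hn', hmn] at h1
    exact Nat.dvd_of_mul_dvd_mul_left hm0 h1
  obtain ⟨H₀, hH₀⟩ := Cfsg.Agent.Lib.Helper1.hall_exists (G := D) m n' hn'
    (Nat.Coprime.coprime_dvd_right hn'n hcop)
  obtain ⟨H₁, hH₁, hYH₁⟩ := Cfsg.Agent.Lib.Helper1.hall_dominance (G := L) m n hmn hcop
    (Y.subgroupOf L) (by rw [Nat.card_congr (Subgroup.subgroupOfEquivOfLe hYL).toEquiv]; exact hY)
  have c₀ : Nat.card (H₀.map D.subtype) = m := by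
    rw [Subgroup.card_map_of_injective D.subtype_injective, hH₀]
  have c₁ : Nat.card (H₁.map L.subtype) = m := by
    rw [Subgroup.card_map_of_injective L.subtype_injective, hH₁]
  have hrel : (H₁.map L.subtype).relIndex L = n := by
    have h1 := Cfsg.Agent.Lib.Helper23.card_mul_relIndex (Subgroup.map_subtype_le H₁)
    rw [c₁, hmn] at h1
    exact Nat.eq_of_mul_eq_mul_left hm0 h1
  obtain ⟨l, hl, hlH⟩ := Cfsg.Agent.Lib.Helper1.hall_conj_rel L hL (H₁.map L.subtype)
    (H₀.map D.subtype) (Subgroup.map_subtype_le H₁) ((Subgroup.map_subtype_le H₀).trans hDL)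
    (by rw [c₁, hrel]; exact hcop) (by rw [c₀, c₁])
  refine ⟨l, hl, ?_⟩
  rintro _ ⟨y, hy, rfl⟩
  apply Subgroup.map_subtype_le H₀
  rw [← hlH]
  have h2 : y ∈ H₁.map L.subtype := ⟨⟨y, hYL hy⟩, hYH₁ (Subgroup.mem_subgroupOf.2 hy), rfl⟩
  exact Cfsg.Agent.Lib.Helper1.conj_mem_conj_smul l h2

theorem relIndex_sup_of_le_normalizer' {H N : Subgroup G}
    (hLE : H ≤ Subgroup.normalizer (N : Set G)) : N.relIndex (H ⊔ N) = N.relIndex H := by
  letI := Subgroup.normal_subgroupOf_of_le_normalizer hLE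
  letI := Subgroup.normal_subgroupOf_sup_of_le_normalizer hLE
  exact Nat.card_congr
    (QuotientGroup.quotientInfEquivProdNormalizerQuotient H N hLE).toEquiv.symm

end Cfsg.Agent.Lib.Helper9.BG12
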