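/-
Helper library (helper9): the rows of Bender–Glauberman Sections 10–12 used in `BG12*`, collected.
-/
import Cfsg.Agent.Lib.Helper9.BG12e
import Cfsg.Agent.S1403
import Cfsg.Agent.S1410
import Cfsg.Agent.S1412
import Cfsg.Agent.S1414
import Cfsg.Agent.S1416
import Cfsg.Agent.S1417

set_option autoImplicit false

namespace Cfsg.Agent.Lib.Helper9.BG12

universe u

theorem rows {G : Type u} [Group G] [Finite G] (hG : Cfsg.IsMinSimpleOddOrder G) : Rows G where
  ms := hG
  ut := fun K hK hK2 hK3 => Cfsg.Agent.S1403.result hG K hK hK2 hK3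
  pl := fun p _ H hH => Cfsg.Agent.S1410.result hG p H hH
  h12 := fun p _ P hr => Cfsg.Agent.S1412.result hG p P hr
  h14 := fun M hM p hp hd hb => ((Cfsg.Agent.S1414.result hG M hM).2.2.2.2 p hp hd hb).2.1
  h16 := fun M hM p _ A hA => Cfsg.Agent.S1416.result hG M hM p A hA
  h17 := by
    intro M hM p _ hp P
    obtain ⟨A, hA⟩ := Cfsg.Agent.Lib.Helper24.exists_elemAb_sq hp.2.2.1 hp.2.2.2
    exact ((Cfsg.Agent.S1417.result hG M hM p hp A hA).2.1 P).1

end Cfsg.Agent.Lib.Helper9.BG12
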