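/-
Helper library (helper9): Bender–Glauberman Corollary 12.17 (S1425): main argument.
-/
import Cfsg.Agent.Lib.Helper9.BG12g

set_option autoImplicit false
set_option linter.unusedSimpArgs false
set_option linter.unusedVariables false
set_option linter.style.haveILetI false
set_option linter.unusedSectionVars false

namespace Cfsg.Agent.Lib.Helper9.BG12

open Cfsg Cfsg.Agent.Lib.Helper34 Cfsg.Agent.Lib.Helper24 Cfsg.Agent.Lib.Helper31.BG11
open scoped commutatorElement Pointwise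

universe u

variable {G : Type u} [Group G]

/-- the part of S1414 on `M_β`. -/
def H1414b (G : Type u) [Group G] : Prop :=
  ∀ M : Subgroup G, IsCoatom M →
    Cfsg.IsPiHallOf (Cfsg.beta M) (Cfsg.piCoreOf (Cfsg.beta M) M) M ∧
      ∃ H : Subgroup G, Cfsg.IsPiHallOf {q | q.Prime ∧ q ∉ Cfsg.beta M} H (Cfsg.sigmaCore M) ∧
        Group.IsNilpotent H

/-- parts (a) and (c) of S1417. -/
def H1417ac (G : Type u) [Group G] : Prop :=
  ∀ M : Subgroup G, IsCoatom M → ∀ (p : ℕ) [Fact p.Prime], p ∈ Cfsg.tau2 M → ∀ A : Subgroup G,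
    (A ≤ M ∧ Cfsg.IsElementaryAbelian p A ∧ Nat.card A = p ^ 2) →
    Group.IsNilpotent (Cfsg.sigmaCore M) ∧
      M ≤ Subgroup.normalizer ((Cfsg.sigmaCore M ⊔ A : Subgroup G) : Set G)

/-- `L = B D` with `B` a normal Hall subgroup of the solvable group `L`: every subgroup of order prime to
`|B|` is conjugate into `D`. -/
theorem conj_into_of_normal_hall [Finite G] {L B D Y : Subgroup G} (hL : Group.IsSolvable L)
    (hBL : B ≤ L) (hLB : L ≤ Subgroup.normalizer (B : Set G))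
    (hHall : (Nat.card B).Coprime (B.relIndex L)) (hDL : D ≤ L)
    (hprod : ∀ x ∈ L, ∃ b ∈ B, ∃ d ∈ D, x = b * d) (hYL : Y ≤ L)
    (hY : (Nat.card Y).Coprime (Nat.card B)) : ∃ l ∈ L, cj l Y ≤ D := by
  have hsup : D ⊔ B = L := by
    apply le_antisymm (sup_le hDL hBL)
    intro x hx
    obtain ⟨b, hb, d, hd, rfl⟩ := hprod x hx
    exact Subgroup.mul_mem _ (Subgroup.mem_sup_right hb) (Subgroup.mem_sup_left hd)
  apply hall_conj_into hL hDL hYL (m := B.relIndex L) (n := Nat.card B)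
    (by rw [mul_comm]; exact (Cfsg.Agent.Lib.Helper23.card_mul_relIndex hBL).symm) hHall.symm _ hY
  rw [← hsup, relIndex_sup_of_le_normalizer' (hDL.trans hLB)]
  exact Subgroup.relIndex_dvd_card B D

/-- a `σ(M)`-subgroup of `M` lies in `M_σ`. -/
theorem le_sc_of_sigma_group [Finite G] (hG : Cfsg.IsMinSimpleOddOrder G) (hU : UT G)
    {M : Subgroup G} (hM : IsCoatom M) {Y : Subgroup G} (hYM : Y ≤ M)
    (hY : ∀ p : ℕ, p.Prime → p ∣ Nat.card Y → p ∈ Cfsg.sigma M) : Y ≤ Cfsg.sigmaCore M := by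
  by_contra hcon
  set D := Cfsg.sigmaCore M ⊓ Y with hD
  have h1 : D.relIndex Y ≠ 1 := by
    intro h
    exact hcon ((Subgroup.relIndex_eq_one.1 h).trans inf_le_left)
  obtain ⟨q, hq, hqd⟩ := Nat.exists_prime_and_dvd h1
  haveI : Fact q.Prime := ⟨hq⟩
  have hqs : q ∈ Cfsg.sigma M := hY q hq (hqd.trans (Subgroup.relIndex_dvd_card _ _))
  obtain ⟨Q, hQ, -⟩ := exists_isSylowIn_ge (bot_le : (⊥ : Subgroup G) ≤ Y) (IsPGroup.of_bot (p := q))
  have hQD : Q ≤ D := le_inf (le_sc hG hU hM hqs (hQ.1.trans hYM) hQ.2.1) hQ.1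
  apply hQ.2.2
  rw [← Subgroup.relIndex_mul_relIndex Q D _ hQD inf_le_right]
  exact Dvd.dvd.mul_left hqd _

/-- Frattini argument. -/
theorem frattini_sylow [Finite G] {p : ℕ} [Fact p.Prime] {L T S : Subgroup G}
    (hLT : L ≤ Subgroup.normalizer (T : Set G)) (hTL : T ≤ L) (hS : IsSylowIn p S T) :
    ∀ x ∈ L, ∃ t ∈ T, ∃ n ∈ L ⊓ Subgroup.normalizer (S : Set G), x = t * n := by
  intro x hx
  have h1 : IsSylowIn p (cj x S) T := by
    have := hS.map_conj x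
    rwa [show T.map (MulAut.conj x).toMonoidHom = T from
      map_conj_eq_self_of_mem_normalizer (hLT hx)] at this
  obtain ⟨n, hn, hnS⟩ := isSylowIn_exists_cj_eq hS h1
  rw [cj_cj] at hnS
  exact ⟨n⁻¹, T.inv_mem hn, n * x, ⟨L.mul_mem (hTL hn) hx, mem_normalizer_of_map_conj_eq hnS⟩,
    by group⟩

/-- `σ(M) ∩ α(M*) = ∅` if `M*` is not conjugate to `M`. -/
theorem sigma_alpha_disjoint [Finite G] (hG : Cfsg.IsMinSimpleOddOrder G) (hU : UT G)
    {M Ms : Subgroup G} (hM : IsCoatom M) (hMs : IsCoatom Ms) (hnc : ∀ g : G, Ms ≠ cj g M) {r : ℕ}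
    (h1 : r ∈ Cfsg.sigma M) (h2 : r ∈ Cfsg.alpha Ms) : False := by
  haveI : Fact r.Prime := ⟨h1.1⟩
  obtain ⟨R, hR, -⟩ := exists_isSylowIn_ge (bot_le : (⊥ : Subgroup G) ≤ Ms) (IsPGroup.of_bot (p := r))
  obtain ⟨R', hR', -⟩ := exists_isSylowIn_ge (bot_le : (⊥ : Subgroup G) ≤ M) (IsPGroup.of_bot (p := r))
  have hrR : ¬ Cfsg.PRankLE r 2 R := fun h => h2.2 (pRankLE_of_isSylowIn hR h)
  have hRU := hU.of_rank3 h1.1 (MS_isPGroup_ne_top hG hR.2.1) hrR
  obtain ⟨g, -, hg⟩ := isSylowIn_exists_cj_eq (sigma_isSylowIn_top h1 hR')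
    (sigma_isSylowIn_top (alpha_subset_sigma hG hU hMs h2) hR)
  have h3 : R ≤ cj g⁻¹ M := by
    rw [le_cj_iff, inv_inv, hg]; exact hR'.1
  exact hnc g⁻¹ (eq_of_inUniqueMaximal hRU (isCoatom_cj hM g⁻¹) h3 hMs hR.1)

/-- `σ(M) ∩ σ(M*) = ∅` if `M*_σ` is nilpotent and `M*` is not conjugate to `M`. -/
theorem sigma_sigma_disjoint [Finite G] (hG : Cfsg.IsMinSimpleOddOrder G) (hU : UT G)
    {M Ms : Subgroup G} (hM : IsCoatom M) (hMs : IsCoatom Ms) (hnc : ∀ g : G, Ms ≠ cj g M)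
    (hnil : Group.IsNilpotent (Cfsg.sigmaCore Ms)) {r : ℕ}
    (h1 : r ∈ Cfsg.sigma M) (h2 : r ∈ Cfsg.sigma Ms) : False := by
  haveI : Fact r.Prime := ⟨h1.1⟩
  obtain ⟨R, hR, -⟩ := exists_isSylowIn_ge (bot_le : (⊥ : Subgroup G) ≤ Cfsg.sigmaCore Ms)
    (IsPGroup.of_bot (p := r))
  obtain ⟨R', hR', -⟩ := exists_isSylowIn_ge (bot_le : (⊥ : Subgroup G) ≤ M) (IsPGroup.of_bot (p := r))
  have hRMs : IsSylowIn r R Ms := sc_sylow hG hU hMs h2 hR
  have hN : Ms ≤ Subgroup.normalizer (R : Set G) :=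
    le_normalizer_of_normal_sylow (sc_norm Ms) hR (le_normalizer_of_nilpotent hnil hR)
  obtain ⟨g, -, hg⟩ := isSylowIn_exists_cj_eq (sigma_isSylowIn_top h1 hR')
    (sigma_isSylowIn_top h2 hRMs)
  have h3 : cj g Ms ≤ M := by
    calc cj g Ms ≤ cj g (Subgroup.normalizer (R : Set G)) := cj_mono g hN
      _ = Subgroup.normalizer ((cj g R : Subgroup G) : Set G) := (normalizer_map_conj g R).symm
      _ ≤ M := by rw [hg]; exact sigma_normalizer_le h1 hR'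
  have h4 : cj g Ms = M := eq_of_coatom_le (isCoatom_cj hMs g) hM h3
  apply hnc g⁻¹
  rw [← h4, cj_inv_cj]

end Cfsg.Agent.Lib.Helper9.BG12
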