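/-
Helper library (helper9): Bender–Glauberman Corollary 12.17 (S1425): the two cases and the theorem.
-/
import Cfsg.Agent.Lib.Helper9.BG12h

set_option autoImplicit false
set_option linter.unusedSimpArgs false
set_option linter.unusedVariables false
set_option linter.style.haveILetI false
set_option linter.unusedSectionVars false

namespace Cfsg.Agent.Lib.Helper9.BG12

open Cfsg Cfsg.Agent.Lib.Helper34 Cfsg.Agent.Lib.Helper24 Cfsg.Agent.Lib.Helper31.BG11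
open scoped commutatorElement Pointwise

universe u

variable {G : Type u} [Group G]

theorem coprime_card_of_isPGroup_of_not_dvd [Finite G] {q n : ℕ} [Fact q.Prime] {S : Subgroup G}
    (hS : IsPGroup q S) (h : ¬ q ∣ n) : (Nat.card S).Coprime n := by
  obtain ⟨a, ha⟩ := IsPGroup.iff_card.1 hS
  rw [ha]
  exact Nat.Coprime.pow_left a ((Nat.Prime.coprime_iff_not_dvd Fact.out).2 h)

theorem dvd_card_of_isPGroup_ne_bot [Finite G] {q : ℕ} [Fact q.Prime] {X : Subgroup G}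
    (hX : IsPGroup q X) (hX1 : X ≠ ⊥) : q ∣ Nat.card X := by
  obtain ⟨k, hk⟩ := IsPGroup.iff_card.1 hX
  rw [hk]
  apply dvd_pow_self
  rintro rfl
  rw [pow_zero] at hk
  exact hX1 (Subgroup.card_eq_one.1 hk)

/-- Case `q ∈ σ(M*)` of BG 12.16/12.17. -/
theorem conj_into_case_sigma [Finite G] (R : Rows G) (h14b : H1414b G) {M Ms : Subgroup G}
    (hM : IsCoatom M) (hMs : IsCoatom Ms) (hnc : ∀ g : G, Ms ≠ cj g M) (hne : Ms ≠ M) {q : ℕ}
    [Fact q.Prime] (hqs : q ∈ Cfsg.sigma Ms) {S : Subgroup G} (hS : IsSylowIn q S Ms) (hSM : S ≤ M)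
    (hNS : Subgroup.normalizer (S : Set G) ≤ M) {Y : Subgroup G} (hYMs : Y ≤ Ms)
    (hY : ∀ p : ℕ, p.Prime → p ∣ Nat.card Y → p ∈ Cfsg.sigma M) : ∃ g : G, cj g Y ≤ M := by
  have hqp : q.Prime := Fact.out
  have hG := R.ms
  have hU := R.ut
  have hr : Cfsg.PRankLE q 2 S := by
    by_contra hr
    exact hne (eq_of_inUniqueMaximal (hU.of_rank3 hqp (MS_isPGroup_ne_top hG hS.2.1) hr) hM hSM hMs hS.1)
  have hqβ : q ∉ Cfsg.beta Ms := fun hb => hb.1.2 (pRankLE_of_isSylowIn hS hr)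
  obtain ⟨hBhall, H, hH, hHnil⟩ := h14b Ms hMs
  set B := Cfsg.piCoreOf (Cfsg.beta Ms) Ms with hB
  set K := Cfsg.sigmaCore Ms with hK
  have hKs : Group.IsSolvable K := MS_solvable hG (ne_top_of_le_ne_top hMs.1 (sc_le Ms))
  have hMsB : Ms ≤ Subgroup.normalizer (B : Set G) := Cfsg.Agent.Lib.Helper23.le_normalizer_piCoreOf _ _
  have hBK : B ≤ K := by
    show B ≤ Cfsg.piCoreOf (Cfsg.sigma Ms) Ms
    exact Cfsg.Agent.Lib.Helper23.le_piCoreOf _ hBhall.1 hMsB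
      (fun p hp hd => alpha_subset_sigma hG hU hMs (hBhall.2.1 p hp hd).1)
  have hSK : S ≤ K := le_sc hG hU hMs hqs hS.1 hS.2.1
  have hSsK : IsSylowIn q S K := hS.of_le hSK (sc_le Ms)
  have hHcop : (Nat.card H).Coprime (H.relIndex K) :=
    Nat.coprime_of_dvd fun k hk h1 h2 => hH.2.2 k hk (hH.2.1 k hk h1) h2
  obtain ⟨k, hk, hkS⟩ := hall_conj_into hKs hH.1 hSK (m := Nat.card H) (n := H.relIndex K)
    (Cfsg.Agent.Lib.Helper23.card_mul_relIndex hH.1).symm hHcop dvd_rfl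
    (coprime_card_of_isPGroup_of_not_dvd hS.2.1 (hH.2.2 q hqp ⟨hqp, hqβ⟩))
  set S₁ := cj k S with hS₁
  have hS₁K : IsSylowIn q S₁ K := by
    have := hSsK.map_conj k
    rwa [show K.map (MulAut.conj k).toMonoidHom = K from map_conj_eq_self_of_mem hk] at this
  have hHN : H ≤ Subgroup.normalizer (S₁ : Set G) :=
    le_normalizer_of_nilpotent hHnil (hS₁K.of_le hkS hH.1)
  have hKBH : K ≤ B ⊔ H := by
    rw [← Subgroup.relIndex_eq_one]
    by_contra h1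
    obtain ⟨r, hr, hrd⟩ := Nat.exists_prime_and_dvd h1
    have hsupK : B ⊔ H ≤ K := sup_le hBK hH.1
    have h2 : r ∣ H.relIndex K := by
      rw [← Subgroup.relIndex_mul_relIndex H (B ⊔ H) K le_sup_right hsupK]
      exact Dvd.dvd.mul_left hrd _
    have h3 : r ∣ B.relIndex Ms := by
      rw [← Subgroup.relIndex_mul_relIndex B K Ms hBK (sc_le Ms),
        ← Subgroup.relIndex_mul_relIndex B (B ⊔ H) K le_sup_left hsupK]
      exact Dvd.dvd.mul_right (Dvd.dvd.mul_left hrd _) _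
    by_cases hrβ : r ∈ Cfsg.beta Ms
    · exact hBhall.2.2 r hr hrβ h3
    · exact hH.2.2 r hr ⟨hr, hrβ⟩ h2
  have hprod : ∀ x ∈ Ms, ∃ b ∈ B, ∃ d ∈ Ms ⊓ Subgroup.normalizer (S₁ : Set G), x = b * d := by
    intro x hx
    obtain ⟨t, ht, n, hn, rfl⟩ := frattini_sylow (sc_norm Ms) (sc_le Ms) hS₁K x hx
    obtain ⟨b, hb, h, hh, rfl⟩ := Cfsg.Agent.Lib.Helper47.mem_sup_of_le_normalizer
      ((hH.1.trans (sc_le Ms)).trans hMsB) (hKBH ht)
    exact ⟨b, hb, h * n, Subgroup.mul_mem _ ⟨sc_le Ms (hH.1 hh), hHN hh⟩ hn, by group⟩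
  obtain ⟨l, hl, hlY⟩ := conj_into_of_normal_hall (MS_solvable hG hMs.1) hBhall.1 hMsB
    (Nat.coprime_of_dvd fun k hk h1 h2 => hBhall.2.2 k hk (hBhall.2.1 k hk h1) h2)
    inf_le_left hprod hYMs
    (Nat.coprime_of_dvd fun r hr h1 h2 =>
      sigma_alpha_disjoint hG hU hM hMs hnc (hY r hr h1) (hBhall.2.1 r hr h2).1)
  refine ⟨k⁻¹ * l, ?_⟩
  rw [← cj_cj, ← le_cj_iff]
  refine (hlY.trans inf_le_right).trans ?_
  rw [hS₁, normalizer_map_conj]
  exact cj_mono k hNS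

/-- Case `q ∉ σ(M*)` of BG 12.16/12.17. -/
theorem conj_into_case_tau2 [Finite G] (R : Rows G) (h17ac : H1417ac G) {M Ms : Subgroup G}
    (hM : IsCoatom M) (hMs : IsCoatom Ms) (hnc : ∀ g : G, Ms ≠ cj g M) {q : ℕ}
    [Fact q.Prime] (hq : q ∈ Cfsg.sigma M) (hqs : q ∉ Cfsg.sigma Ms) {S : Subgroup G}
    (hS : IsSylowIn q S Ms) (hSM : S ≤ M) (hSnc : ¬ IsCyclic S) {Y : Subgroup G} (hYMs : Y ≤ Ms)
    (hY : ∀ p : ℕ, p.Prime → p ∣ Nat.card Y → p ∈ Cfsg.sigma M) : ∃ g : G, cj g Y ≤ M := by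
  have hqp : q.Prime := Fact.out
  have hG := R.ms
  have hU := R.ut
  obtain ⟨A, hAS, hAe, hAc⟩ := exists_elemAb_sq_of_not_isCyclic (sigma_ne_two hG hq) hS.2.1 hSnc
  have hAMs : A ≤ Ms := hAS.trans hS.1
  have hlt : q < Nat.card A := by
    rw [hAc]
    calc q = q ^ 1 := (pow_one q).symm
      _ < q ^ 2 := Nat.pow_lt_pow_right hqp.one_lt (by norm_num)
  have ht : q ∈ Cfsg.tau2 Ms := by
    refine ⟨hqp, hqs, ?_, not_pRankLE_of_le hAMs hAe.1 hAe.2 (by rwa [pow_one])⟩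
    by_contra hr
    exact hqs (alpha_subset_sigma hG hU hMs ⟨hqp, hr⟩)
  obtain ⟨hnil, hnorm⟩ := h17ac Ms hMs q ht A ⟨hAMs, hAe, hAc⟩
  set K := Cfsg.sigmaCore Ms with hK
  have hApg : IsPGroup q A := isPGroup_of_exponent hAe.2
  have hNA : Subgroup.normalizer (A : Set G) ≤ M := norm_noncyclic_sigma hG hU R.h16.a hM hq hApg
    (hAS.trans hSM) (Cfsg.Agent.Lib.Helper23U.not_isCyclic_of_elemAb hAe.2 hlt)
  have hKs : Group.IsSolvable K := MS_solvable hG (ne_top_of_le_ne_top hMs.1 (sc_le Ms))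
  have hqK : ¬ q ∣ Nat.card K := fun h => hqs (sc_primes Ms hqp h)
  have hprod : ∀ x ∈ Ms, ∃ b ∈ K, ∃ d ∈ Ms ⊓ Subgroup.normalizer (A : Set G), x = b * d := by
    intro x hx
    have h1 : cj x A ≤ K ⊔ A := by
      have := cj_mono x (le_sup_right : A ≤ K ⊔ A)
      rwa [show cj x (K ⊔ A) = K ⊔ A from map_conj_eq_self_of_mem_normalizer (hnorm hx)] at this
    obtain ⟨y, hy, hyA⟩ := Cfsg.Agent.Lib.Helper25.sz_conj_ambient K A (cj x A)
      (hAMs.trans (sc_norm Ms)) h1 (coprime_card_of_isPGroup_of_not_dvd hApg hqK).symm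
      (card_map_conj x A) (Or.inl hKs)
    have h2 : cj (y⁻¹ * x) A = A := by
      rw [← cj_cj, hyA]; exact cj_inv_cj y A
    exact ⟨y, hy, y⁻¹ * x, ⟨Ms.mul_mem (Ms.inv_mem (sc_le Ms hy)) hx,
      mem_normalizer_of_map_conj_eq h2⟩, by group⟩
  have hhall := sc_hall hG hU hMs
  obtain ⟨l, hl, hlY⟩ := conj_into_of_normal_hall (MS_solvable hG hMs.1) (sc_le Ms) (sc_norm Ms)
    (Nat.coprime_of_dvd fun k hk h1 h2 => hhall.2.2 k hk (hhall.2.1 k hk h1) h2)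
    inf_le_left hprod hYMs
    (Nat.coprime_of_dvd fun r hr h1 h2 =>
      sigma_sigma_disjoint hG hU hM hMs hnc hnil (hY r hr h1) (sc_primes Ms hr h2))
  exact ⟨l, (hlY.trans inf_le_right).trans hNA⟩

/-- **BG Corollary 12.17** (S1425). -/
theorem sigma_Jsub [Finite G] (R : Rows G) (h14b : H1414b G) (h17ac : H1417ac G) {M : Subgroup G}
    (hM : IsCoatom M) {Y : Subgroup G} (hY1 : Y ≠ ⊥)
    (hY : ∀ p : ℕ, p.Prime → p ∣ Nat.card Y → p ∈ Cfsg.sigma M) :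
    ∃ g : G, cj g Y ≤ Cfsg.sigmaCore M := by
  have hG := R.ms
  have hU := R.ut
  suffices h : ∃ g : G, cj g Y ≤ M by
    obtain ⟨g, hg⟩ := h
    exact ⟨g, le_sc_of_sigma_group hG hU hM hg (by rw [card_map_conj]; exact hY)⟩
  have hYtop : Y ≠ ⊤ := by
    rintro rfl
    have hhall := (piCoreOf_hall hG hU hM (Cfsg.sigma M)
      (fun _ h => alpha_subset_sigma hG hU hM h) subset_rfl).2
    have h1 : (Cfsg.sigmaCore M).index ≠ 1 := by
      intro h
      rw [Subgroup.index_eq_one] at h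
      exact hM.1 (top_le_iff.1 (h ▸ sc_le M))
    obtain ⟨r, hr, hrd⟩ := Nat.exists_prime_and_dvd h1
    refine hhall.2 r hr (hY r hr ?_) hrd
    rw [Nat.card_congr Subgroup.topEquiv.toEquiv]
    exact hrd.trans (Subgroup.index_dvd_card _)
  obtain ⟨q, N, hq, hNY, hN1, hNq, hYN⟩ := exists_normal_pSubgroup_rel (MS_solvable hG hYtop) hY1
  haveI : Fact q.Prime := ⟨hq⟩
  have hqs : q ∈ Cfsg.sigma M :=
    hY q hq ((dvd_card_of_isPGroup_ne_bot hNq hN1).trans (Subgroup.card_dvd_of_le hNY))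
  obtain ⟨R', hR', -⟩ := exists_isSylowIn_ge (bot_le : (⊥ : Subgroup G) ≤ M) (IsPGroup.of_bot (p := q))
  obtain ⟨g, -, hg⟩ := (sigma_isSylowIn_top hqs hR').exists_conj_le (le_top : N ≤ ⊤) hNq
  set X := cj g N with hX
  set Y' := cj g Y with hY'
  have hXM : X ≤ M := hg.trans hR'.1
  have hXq : IsPGroup q X := isPGroup_map_conj g hNq
  have hX1 : X ≠ ⊥ := by
    intro h
    apply hN1
    have h2 : Nat.card X = 1 := by rw [h, Subgroup.card_bot]
    rw [hX, card_map_conj] at h2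
    exact Subgroup.card_eq_one.1 h2
  have hYX : Y' ≤ Subgroup.normalizer (X : Set G) := by
    rw [hX, normalizer_map_conj]; exact cj_mono g hYN
  have hYs : ∀ p : ℕ, p.Prime → p ∣ Nat.card Y' → p ∈ Cfsg.sigma M := by
    rw [hY', card_map_conj]; exact hY
  suffices h : ∃ g' : G, cj g' Y' ≤ M by
    obtain ⟨g', hg'⟩ := h
    exact ⟨g' * g, by rw [← cj_cj]; exact hg'⟩
  by_cases hNX : Subgroup.normalizer (X : Set G) ≤ M
  · exact ⟨1, by rw [cj_one]; exact hYX.trans hNX⟩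
  obtain ⟨Ms, hMs, hNMs⟩ := exists_coatom_ge
    (MS_normalizer_ne_top hG hX1 (MS_isPGroup_ne_top hG hXq))
  have hne : Ms ≠ M := by
    rintro rfl
    exact hNX hNMs
  have hXMs : X ≤ Ms := Subgroup.le_normalizer.trans hNMs
  obtain ⟨S, hS, hXS⟩ := exists_isSylowIn_ge (le_inf hXM hXMs) hXq
  obtain ⟨ha, hb, hc⟩ := sigma_subgroup_embedding hG hU R.h16.a hM hqs hXq hX1 hXM hMs hne hNMs hS hXS
  have hSM : S ≤ M := hS.1.trans inf_le_left
  by_cases hqMs : q ∈ Cfsg.sigma Ms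
  · exact conj_into_case_sigma R h14b hM hMs ha hne hqMs hc hSM hb (hYX.trans hNMs) hYs
  · apply conj_into_case_tau2 R h17ac hM hMs ha hqs hqMs hc hSM _ (hYX.trans hNMs) hYs
    intro hcyc
    apply hqMs
    exact mem_sigma_iff.2 ⟨(dvd_card_of_isPGroup_ne_bot hXq hX1).trans (Subgroup.card_dvd_of_le hXMs),
      S, hc, (normalizer_le_normalizer_of_isCyclic hcyc hXS).trans hNMs⟩

end Cfsg.Agent.Lib.Helper9.BG12
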