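import Cfsg.Agent.Lib.Helper47.PCore
import Cfsg.Agent.Lib.Lead.Cores

set_option autoImplicit false
open Cfsg Subgroup

namespace Cfsg.Agent.Lib.Helper9

open Cfsg.Agent.Lib.Helper47

variable {G : Type*} [Group G] {p : ℕ}

/-- `O_{p'}(H)` of a subgroup `H`, as a subgroup of the ambient group. -/
def pPrimeCoreOf (p : ℕ) (H : Subgroup G) : Subgroup G := (pPrimeCore p H).map H.subtype

theorem pPrimeCoreOf_le (H : Subgroup G) : pPrimeCoreOf p H ≤ H := map_subtype_le _

theorem card_pPrimeCoreOf_coprime [Finite G] (H : Subgroup G) :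
    (Nat.card (pPrimeCoreOf p H)).Coprime p := by
  unfold pPrimeCoreOf
  rw [Subgroup.card_map_of_injective H.subtype_injective]
  exact Cfsg.Agent.Lib.Lead.card_pPrimeCore_coprime p

theorem pPrimeCoreOf_subgroupOf (H : Subgroup G) :
    (pPrimeCoreOf p H).subgroupOf H = pPrimeCore p ↥H := by
  unfold pPrimeCoreOf
  exact comap_map_eq_self_of_injective (subtype_injective H) _

theorem le_normalizer_pPrimeCoreOf [Finite G] (H : Subgroup G) :
    H ≤ normalizer (pPrimeCoreOf p H : Set G) := by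
  have h : (pPrimeCore p ↥H).Normal := (Cfsg.Agent.Lib.Lead.pPrimeCore_mem p).1
  rw [← pPrimeCoreOf_subgroupOf] at h
  exact (normal_subgroupOf_iff_le_normalizer (pPrimeCoreOf_le H)).mp h

theorem le_pPrimeCoreOf {A H : Subgroup G} (hAH : A ≤ H) (hn : H ≤ normalizer (A : Set G))
    (hA : (Nat.card A).Coprime p) : A ≤ pPrimeCoreOf p H := by
  have h1 : (A.subgroupOf H).Normal := (normal_subgroupOf_iff_le_normalizer hAH).mpr hn
  have h2 : (Nat.card (A.subgroupOf H)).Coprime p := by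
    rw [Nat.card_congr (Subgroup.subgroupOfEquivOfLe hAH).toEquiv]
    exact hA
  have h3 := Cfsg.Agent.Lib.Lead.le_pPrimeCore h1 h2
  have h4 := map_mono (f := H.subtype) h3
  rwa [map_subgroupOf_eq_of_le hAH] at h4

theorem cj_pPrimeCoreOf_le [Finite G] (g : G) (H : Subgroup G) :
    cj g (pPrimeCoreOf p H) ≤ pPrimeCoreOf p (cj g H) := by
  apply le_pPrimeCoreOf (cj_mono (pPrimeCoreOf_le H))
  · rw [← cj_normalizer]
    exact cj_mono (le_normalizer_pPrimeCoreOf H)
  · rw [card_cj]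
    exact card_pPrimeCoreOf_coprime H

theorem cj_pPrimeCoreOf [Finite G] (g : G) (H : Subgroup G) :
    cj g (pPrimeCoreOf p H) = pPrimeCoreOf p (cj g H) := by
  apply le_antisymm (cj_pPrimeCoreOf_le g H)
  have := cj_pPrimeCoreOf_le (p := p) g⁻¹ (cj g H)
  rw [cj_inv_cj] at this
  exact le_cj_iff.mpr this

theorem normalizer_le_normalizer_pPrimeCoreOf [Finite G] (H : Subgroup G) :
    normalizer (H : Set G) ≤ normalizer (pPrimeCoreOf p H : Set G) := by
  intro g hg
  apply mem_normalizer_of_cj_eq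
  rw [cj_pPrimeCoreOf, cj_eq_self_of_mem_normalizer hg]

theorem pPrimeCoreOf_le_pPrimeCoreOf_of_normal [Finite G] {N H : Subgroup G} (hNH : N ≤ H)
    (hn : H ≤ normalizer (N : Set G)) : pPrimeCoreOf p N ≤ pPrimeCoreOf p H :=
  le_pPrimeCoreOf ((pPrimeCoreOf_le N).trans hNH)
    (hn.trans (normalizer_le_normalizer_pPrimeCoreOf N)) (card_pPrimeCoreOf_coprime N)

theorem pPrimeCore_eq_bot_iff_pPrimeCoreOf {H : Subgroup G} :
    pPrimeCore p ↥H = ⊥ ↔ pPrimeCoreOf p H = ⊥ := by
  unfold pPrimeCoreOf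
  rw [(map_eq_bot_iff_of_injective _ (subtype_injective H))]

theorem pPrimeCoreOf_top [Finite G] : pPrimeCoreOf p (⊤ : Subgroup G) = pPrimeCore p G := by
  apply le_antisymm
  · apply Cfsg.Agent.Lib.Lead.le_pPrimeCore
    · rw [← normalizer_eq_top_iff, eq_top_iff]
      exact le_normalizer_pPrimeCoreOf ⊤
    · exact card_pPrimeCoreOf_coprime ⊤
  · apply le_pPrimeCoreOf le_top
    · have : (pPrimeCore p G).Normal := (Cfsg.Agent.Lib.Lead.pPrimeCore_mem p).1
      rw [normalizer_eq_top_iff.mpr this]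
    · exact Cfsg.Agent.Lib.Lead.card_pPrimeCore_coprime p

/-- a `p`-subgroup and a `p'`-subgroup meet trivially. -/
theorem inf_eq_bot_of_isPGroup_of_coprime [Finite G] [Fact p.Prime] {A B : Subgroup G}
    (hA : IsPGroup p A) (hB : (Nat.card B).Coprime p) : A ⊓ B = ⊥ := by
  obtain ⟨k, hk⟩ := IsPGroup.iff_card.mp hA
  apply (Subgroup.disjoint_of_coprime_natCard _).eq_bot
  rw [hk]
  exact (Nat.Coprime.pow_right k hB).symm

/-- two subgroups normalizing each other with trivial intersection commute. -/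
theorem le_centralizer_of_normalize_of_inf_eq_bot {A B : Subgroup G}
    (hAB : A ≤ normalizer (B : Set G)) (hBA : B ≤ normalizer (A : Set G)) (h : A ⊓ B = ⊥) :
    A ≤ centralizer (B : Set G) := by
  intro a ha
  rw [mem_centralizer_iff]
  intro b hb
  have h1 : a * b * a⁻¹ * b⁻¹ ∈ A ⊓ B := by
    constructor
    · have : b * a⁻¹ * b⁻¹ ∈ A := (mem_normalizer_iff.mp (hBA hb) _).mp (inv_mem ha)
      have h2 := mul_mem ha this
      simpa [mul_assoc] using h2
    · exact B.mul_mem ((mem_normalizer_iff.mp (hAB ha) _).mp hb) (B.inv_mem hb)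
  rw [h, mem_bot] at h1
  have : a * b = b * a := by
    have h3 : a * b * a⁻¹ * b⁻¹ * (b * a) = b * a := by rw [h1, one_mul]
    simpa [mul_assoc] using h3
  exact this.symm

end Cfsg.Agent.Lib.Helper9
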