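/-
Helper library (helper9): Bender–Glauberman Theorem 14.7, piece (A) of helper25's plan:
the partner of a maximal subgroup `M` of type `P` attached to a subgroup `X ≤ K` of prime order.
-/
import Cfsg.Agent.Lib.Helper25.BG14Ifc
import Cfsg.Agent.Lib.Helper62.HallCoprime
import Cfsg.Agent.Lib.Helper31.BG11a

set_option autoImplicit false
set_option linter.unusedSimpArgs false
set_option linter.unusedVariables false
set_option linter.style.haveILetI false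
set_option linter.unusedSectionVars false

namespace Cfsg.Agent.Lib.Helper9.BG147A

open Subgroup Cfsg Cfsg.Agent.Lib.Helper25.BG14 Cfsg.Agent.Lib.Helper24 Cfsg.Agent.Lib.Helper34
open Cfsg.Agent.Lib.Helper31.BG11

universe u

variable {G : Type u} [Group G] [Finite G]

/-- In a solvable subgroup, a `π`-subgroup lies in a Hall `π`-subgroup. -/
theorem hall_ge {π : Set ℕ} {M U : Subgroup G} (hM : Group.IsSolvable M) (hU : U ≤ M)
    (hπ : ∀ p : ℕ, p.Prime → p ∣ Nat.card U → p ∈ π) : ∃ H, IsPiHallOf π H M ∧ U ≤ H := by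
  obtain ⟨H, h1, _, h3⟩ := Cfsg.Agent.Lib.Helper62.invariant_le_invariant_hall_aux π _ G ⊥ M U rfl
    bot_le (by simp) hM hU bot_le hπ
  exact ⟨H, h1, h3⟩

/-- In a solvable subgroup, a `π`-subgroup lies in a conjugate of a given Hall `π`-subgroup. -/
theorem hall_conj_ge {π : Set ℕ} {M K U : Subgroup G} (hM : Group.IsSolvable M)
    (hK : IsPiHallOf π K M) (hU : U ≤ M)
    (hπ : ∀ p : ℕ, p.Prime → p ∣ Nat.card U → p ∈ π) : ∃ m ∈ M, U ≤ cj m K := by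
  obtain ⟨H, hH, hUH⟩ := hall_ge hM hU hπ
  obtain ⟨g, hg, hgK⟩ := Cfsg.Agent.Lib.Helper62.IsPiHallOf.exists_conj hM hK hH
  exact ⟨g, hg, hUH.trans (le_of_eq hgK.symm)⟩

theorem exists_prime_pow {y : G} (hy : y ≠ 1) : ∃ y' ∈ zpowers y, (orderOf y').Prime := by
  have h1 : orderOf y ≠ 1 := fun h => hy (orderOf_eq_one_iff.1 h)
  refine ⟨y ^ (orderOf y / (orderOf y).minFac), Subgroup.npow_mem_zpowers _ _, ?_⟩
  rw [orderOf_pow_orderOf_div (orderOf_pos y).ne' (Nat.minFac_dvd _)]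
  exact Nat.minFac_prime h1

omit [Finite G] in
theorem comm_of_cyclic {K : Subgroup G} (hK : IsCyclic K) {a b : G} (ha : a ∈ K) (hb : b ∈ K) :
    a * b = b * a := by
  letI := hK.commGroup
  have := mul_comm (⟨a, ha⟩ : K) ⟨b, hb⟩
  exact congrArg Subtype.val this

/-- `C_G(y) ≤ M` for `y ∈ K*`, `y ≠ 1`. -/
theorem cent_le (H : Hyp G) {M K : Subgroup G} (hM : IsCoatom M)
    (hK : IsPiHallOf (kappa M) K M) (hK1 : K ≠ ⊥) {y : G} (hy : y ∈ Ks M K) (hy1 : y ≠ 1) :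
    centralizer ({y} : Set G) ≤ M := by
  obtain ⟨y', hy', hp⟩ := exists_prime_pow hy1
  have h1 := (H.h142c M hM K hK hK1 (zpowers y') (zpowers_le.2 ((zpowers_le.2 hy) hy'))
    (by rw [Nat.card_zpowers]; exact hp)).1
  refine le_trans ?_ h1
  intro g hg
  rw [mem_centralizer_iff]
  intro z hz
  have hz' : z ∈ zpowers y := (zpowers_le.2 hy') hz
  obtain ⟨i, rfl⟩ := mem_zpowers_iff.1 hz'
  have h2 : Commute y g := (mem_centralizer_iff.1 hg) y rfl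
  exact (h2.zpow_left i).eq

/-- `N_G(Y) ≤ M` for `Y ≤ K*` of prime order. -/
theorem norm_le (H : Hyp G) {M K Y : Subgroup G} (hM : IsCoatom M)
    (hK : IsPiHallOf (kappa M) K M) (hK1 : K ≠ ⊥) (hY : Y ≤ Ks M K) (hYp : (Nat.card Y).Prime) :
    normalizer (Y : Set G) ≤ M := by
  obtain ⟨h1, h2⟩ := H.h142c M hM K hK hK1 Y hY hYp
  intro g hg
  apply MS_mem_of_cj_eq H.hG hM
  apply h2 _ (isCoatom_cj hM g)
  intro c hc
  refine ⟨g⁻¹ * c * g, h1 ?_, by simp [MulAut.conj_apply, mul_assoc]⟩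
  rw [mem_centralizer_iff]
  intro z hz
  have hz' : g * z * g⁻¹ ∈ Y := (mem_normalizer_iff.1 hg z).1 hz
  have h3 := (mem_centralizer_iff.1 hc) _ hz'
  calc z * (g⁻¹ * c * g) = g⁻¹ * ((g * z * g⁻¹) * c) * g := by group
    _ = g⁻¹ * (c * (g * z * g⁻¹)) * g := by rw [h3]
    _ = _ := by group

/-- The key use of BG 14.4(b) (row S1432). -/
theorem kappa_of_comm (H : Hyp G) {M K L : Subgroup G} (hM : IsCoatom M)
    (hK : IsPiHallOf (kappa M) K M) (hK1 : K ≠ ⊥) (hL : IsCoatom L) (hne : M ≠ L)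
    (hdis : ∀ p, p ∈ sigma M → p ∉ sigma L) {x y : G} (hx : x ∈ sigmaCore L) (hx1 : x ≠ 1)
    (hy : y ∈ Ks M K) (hy1 : y ≠ 1) (hyL : y ∈ L) (hxy : x * y = y * x) :
    ∀ p : ℕ, p.Prime → p ∣ orderOf y → p ∈ kappa L := by
  have hσ : ∀ p : ℕ, p.Prime → p ∣ orderOf y → p ∉ sigma L := by
    intro p hp hd
    apply hdis
    apply sc_primes M hp
    have h1 : orderOf y ∣ Nat.card (sigmaCore M) := by
      have := orderOf_dvd_natCard (⟨y, hy.1⟩ : sigmaCore M)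
      rwa [Subgroup.orderOf_mk] at this
    exact hd.trans h1
  rcases H.h1432 L hL x hx hx1 y ⟨hyL, mem_centralizer_iff.2 (fun z hz => by
    rw [Set.mem_singleton_iff.1 hz]; exact hxy)⟩ hy1 hσ with h1 | h1
  · exact h1.1
  · exact absurd (h1.2.2.2 M hM (cent_le H hM hK hK1 hy hy1)) hne

/-- (A) the partner of `M` attached to a subgroup `X ≤ K` of prime order. -/
theorem exists_partner (H : Hyp G) {M K Z X : Subgroup G} (h : PT M K Z) (hX : X ≤ K)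
    (hXp : (Nat.card X).Prime) :
    ∃ M₁ K₁ : Subgroup G, PT M₁ K₁ Z ∧ X ≤ Ks M₁ K₁ ∧ Ks M K ≤ K₁ ∧ Ks M₁ K₁ ≤ K ∧
      ∀ g : G, M₁ ≠ M.map (MulAut.conj g).toMonoidHom := by
  have hG := H.hG
  obtain ⟨hM, hK, hK1, hZ⟩ := h
  have hKM : K ≤ M := hK.1
  have hKc : IsCyclic K := (H.h1351 M hM).2 K hK
  obtain ⟨x, hxX, hx1⟩ := exists_ne_one_of_card_prime hXp rfl
  have hXbot : X ≠ ⊥ := fun e => hx1 (by rw [e] at hxX; exact mem_bot.1 hxX)
  have hXtop : X ≠ ⊤ := fun e => hM.1 (top_le_iff.1 (e ▸ hX.trans hKM))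
  obtain ⟨M₁, hM₁, hNM₁⟩ := exists_coatom_ge (MS_normalizer_ne_top hG hXbot hXtop)
  have h30 := H.h1430 M hM K hK hK1
  have hXσ : X ≤ sigmaCore M₁ := (h30.2.2 X hX hXp).2.2 M₁ hM₁ hNM₁
  have hpσ₁ : Nat.card X ∈ sigma M₁ := sc_primes M₁ hXp (Subgroup.card_dvd_of_le hXσ)
  have hpκ : Nat.card X ∈ kappa M := hK.2.1 _ hXp (Subgroup.card_dvd_of_le hX)
  have hpσ : Nat.card X ∉ sigma M := hpκ.2.2.1
  have hnc : ∀ g : G, M₁ ≠ cj g M := fun g hg => hpσ ((sigma_cj_iff g).1 (hg ▸ hpσ₁))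
  have hne : M ≠ M₁ := fun e => hnc 1 (by rw [cj_one]; exact e.symm)
  have hdis : ∀ q, q ∈ sigma M → q ∉ sigma M₁ := fun q h1 h2 => by
    obtain ⟨g, hg⟩ := H.h1378.2 M M₁ hM hM₁ ⟨q, h1, h2⟩
    exact hnc g hg
  have hKCX : K ≤ centralizer (X : Set G) := fun a ha =>
    mem_centralizer_iff.2 (fun z hz => comm_of_cyclic hKc (hX hz) ha)
  have hKsCX : Ks M K ≤ centralizer (X : Set G) := inf_le_right.trans (centralizer_le hX)
  have hZM₁ : Z ≤ M₁ := by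
    rw [← hZ]
    exact (sup_le hKCX hKsCX).trans ((centralizer_le_normalizer' X).trans hNM₁)
  have hKsZ : Ks M K ≤ Z := hZ ▸ le_sup_right
  have hKZ : K ≤ Z := hZ ▸ le_sup_left
  have hcomm : ∀ a ∈ K, ∀ y ∈ Ks M K, a * y = y * a := fun a ha y hy =>
    (mem_centralizer_iff.1 hy.2) a ha
  have hKsκ : ∀ y ∈ Ks M K, y ≠ 1 → ∀ q : ℕ, q.Prime → q ∣ orderOf y → q ∈ kappa M₁ :=
    fun y hy hy1 => kappa_of_comm H hM hK hK1 hM₁ hne hdis (hXσ hxX) hx1 hy hy1 (hZM₁ (hKsZ hy))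
      (hcomm x (hX hxX) y hy)
  have hKsκ' : ∀ q : ℕ, q.Prime → q ∣ Nat.card (Ks M K) → q ∈ kappa M₁ := by
    intro q hq hd
    haveI := Fact.mk hq
    obtain ⟨y, hy⟩ := exists_prime_orderOf_dvd_card' q hd
    refine hKsκ y y.2 ?_ q hq (by rw [Subgroup.orderOf_coe, hy])
    intro e
    have : y = 1 := Subtype.ext e
    rw [this, orderOf_one] at hy
    exact hq.one_lt.ne hy
  have hKs1 : Ks M K ≠ ⊥ := (H.h1354 M hM K hKc hK).1
  obtain ⟨K₁, hK₁, hKsK₁⟩ := hall_ge (MS_solvable hG hM₁.1) (hKsZ.trans hZM₁) hKsκ'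
  have hK₁c := (H.h1351 M₁ hM₁).2 K₁ hK₁
  have hK₁1 : K₁ ≠ ⊥ := fun e => hKs1 (le_bot_iff.1 (e ▸ hKsK₁))
  -- an element `y` of prime order of `K*`
  obtain ⟨y, hy, hyp⟩ : ∃ y ∈ Ks M K, (orderOf y).Prime := by
    obtain ⟨y₀, hy₀, hy₀1⟩ := (Subgroup.ne_bot_iff_exists_ne_one).1 hKs1 |>.elim
      (fun a ha => (⟨a.1, a.2, fun e => ha (Subtype.ext e)⟩ : ∃ y₀ ∈ Ks M K, y₀ ≠ 1))
    obtain ⟨y', hy', hp'⟩ := exists_prime_pow hy₀1
    exact ⟨y', (zpowers_le.2 hy₀) hy', hp'⟩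
  have hy1 : y ≠ 1 := fun e => by rw [e, orderOf_one] at hyp; exact Nat.not_prime_one hyp
  have h30' := H.h1430 M₁ hM₁ K₁ hK₁ hK₁1
  have hXKs₁ : X ≤ Ks M₁ K₁ := by
    show X ≤ sigmaCore M₁ ⊓ centralizer (K₁ : Set G)
    rw [← h30'.1 y (hKsK₁ hy) hy1]
    refine le_inf hXσ (fun a ha => mem_centralizer_iff.2 (fun z hz => ?_))
    rw [Set.mem_singleton_iff.1 hz]
    exact (hcomm a (hX ha) y hy).symm
  have h54' := (H.h1354 M₁ hM₁ K₁ hK₁c hK₁).2 hK₁1 y (hKsK₁ hy) hy1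
  have hZle : Z ≤ K₁ ⊔ Ks M₁ K₁ := by
    rw [← h54']
    refine le_inf hZM₁ ?_
    rw [← hZ]
    refine sup_le (fun a ha => mem_centralizer_iff.2 (fun z hz => ?_))
      (fun a ha => mem_centralizer_iff.2 (fun z hz => ?_))
    · rw [Set.mem_singleton_iff.1 hz]
      exact (hcomm a ha y hy).symm
    · rw [Set.mem_singleton_iff.1 hz]
      exact comm_of_cyclic hK₁c (hKsK₁ hy) (hKsK₁ ha)
  have hYp : (Nat.card (zpowers y)).Prime := by rw [Nat.card_zpowers]; exact hyp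
  have hleM : K₁ ⊔ Ks M₁ K₁ ≤ M := by
    rw [← (h30'.2.2 (zpowers y) (zpowers_le.2 (hKsK₁ hy)) hYp).1]
    exact inf_le_right.trans (norm_le H hM hK hK1 (zpowers_le.2 hy) hYp)
  have h54 := (H.h1354 M hM K hKc hK).2 hK1 x (hX hxX) hx1
  have hK₁Z : K₁ ≤ Z := by
    rw [← hZ, ← h54]
    refine le_inf (le_sup_left.trans hleM) (fun a ha => mem_centralizer_iff.2 (fun z hz => ?_))
    rw [Set.mem_singleton_iff.1 hz]
    exact ((mem_centralizer_iff.1 (hXKs₁ hxX).2) a ha).symm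
  have hdis' : ∀ q, q ∈ sigma M₁ → q ∉ sigma M := fun q h1 h2 => hdis q h2 h1
  have hKs₁κ : ∀ q : ℕ, q.Prime → q ∣ Nat.card (Ks M₁ K₁) → q ∈ kappa M := by
    intro q hq hd
    haveI := Fact.mk hq
    obtain ⟨x', hx'⟩ := exists_prime_orderOf_dvd_card' q hd
    have hx'1 : (x' : G) ≠ 1 := by
      intro e
      have : x' = 1 := Subtype.ext e
      rw [this, orderOf_one] at hx'
      exact hq.one_lt.ne hx'
    refine kappa_of_comm H hM₁ hK₁ hK₁1 hM hne.symm hdis' hy.1 hy1 x'.2 hx'1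
      (hleM (mem_sup_right x'.2)) ((mem_centralizer_iff.1 x'.2.2) y (hKsK₁ hy)) q hq
      (by rw [Subgroup.orderOf_coe, hx'])
  obtain ⟨m, hm, hKs₁m⟩ := hall_conj_ge (MS_solvable hG hM.1) hK (le_sup_right.trans hleM) hKs₁κ
  have hmZ : m ∈ K ⊔ Ks M K := by
    by_contra hcon
    have h1 := (H.h1431 M hM K hK hK1).2.1 m hm hcon
    have h2 : x ∈ K ⊓ K.map (MulAut.conj m).toMonoidHom := ⟨hX hxX, hKs₁m (hXKs₁ hxX)⟩
    rw [h1] at h2
    exact hx1 (mem_bot.1 h2)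
  have hmN : m ∈ normalizer (K : Set G) :=
    (sup_le le_normalizer (inf_le_right.trans (centralizer_le_normalizer' K))) hmZ
  have hKs₁K : Ks M₁ K₁ ≤ K := by
    have := map_conj_eq_self_of_mem_normalizer hmN
    rw [← this]
    exact hKs₁m
  exact ⟨M₁, K₁, ⟨hM₁, hK₁, hK₁1, le_antisymm (sup_le hK₁Z (hKs₁K.trans hKZ)) hZle⟩, hXKs₁, hKsK₁,
    hKs₁K, hnc⟩

end Cfsg.Agent.Lib.Helper9.BG147A
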