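/-
Helper library (helper9): Bender–Glauberman Sections 13–14, the lemmas L4 (= 13.12), L5 (= 14.2(b2)) and
L6 (the partner of a maximal subgroup with `κ(M) ≠ ∅`) of helper87's plan.  L3 (Theorem U) enters as the
explicit hypothesis `HL3 G`.
-/
import Cfsg.Agent.S1378
import Cfsg.Agent.S1408
import Cfsg.Agent.S1419
import Cfsg.Agent.S1424
import Cfsg.Agent.S1426
import Cfsg.Agent.S1427
import Cfsg.Agent.S1428
import Cfsg.Agent.Lib.Helper91.BG134
import Cfsg.Agent.Lib.Helper24.Rank2Main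
import Cfsg.Agent.Lib.Helper24.BG13BC
import Cfsg.Agent.Lib.Helper23.BGT2
import Cfsg.Agent.Lib.Helper47.PRed
import Cfsg.Agent.Lib.Helper9.BG147A

set_option autoImplicit false
set_option linter.unusedSimpArgs false
set_option linter.unusedVariables false
set_option linter.style.haveILetI false
set_option linter.unusedSectionVars false

namespace Cfsg.Agent.Lib.Helper9.BG13M

open Subgroup Cfsg
open Cfsg.Agent.Lib
open Cfsg.Agent.Lib.Helper24 Cfsg.Agent.Lib.Helper34 Cfsg.Agent.Lib.Helper31.BG11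
open Cfsg.Agent.Lib.Helper34.BG13 Cfsg.Agent.Lib.Helper9.BG12 Cfsg.Agent.Lib.Helper91.BG13
open Cfsg.Agent.Lib.Helper24.BG13U
open scoped commutatorElement

universe u

variable {G : Type u} [Group G] [Finite G]

/-- L3 (Theorem U) of helper87's plan. -/
def HL3 (G : Type u) [Group G] : Prop :=
  ∀ M : Subgroup G, IsCoatom M → ∀ p ∈ tau1 M, ∀ P : Subgroup G, P ≤ M → Nat.card P = p →
    ∀ X : Subgroup G, X ≤ sigmaCore M ⊓ centralizer (P : Set G) → (Nat.card X).Prime →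
      normalizer (X : Set G) ≤ M

theorem h139 (hG : IsMinSimpleOddOrder G) : H1378 G := (Cfsg.Agent.S1378.result hG).2

/-! ### Utilities -/

theorem sc_le_comm (hG : IsMinSimpleOddOrder G) {M : Subgroup G} (hM : IsCoatom M) :
    sigmaCore M ≤ ⁅M, M⁆ := by
  obtain ⟨E, hE, -⟩ := exists_compl_ge hG (ut hG) hM (bot_le : (⊥ : Subgroup G) ≤ M) (by
    intro r hr hd
    rw [card_bot] at hd
    exact absurd (Nat.dvd_one.1 hd) hr.one_lt.ne')
  have h := (Cfsg.Agent.S1426.result hG M hM E hE).2.1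
  rw [← h]
  exact commutator_mono (sc_le M) hE.1

/-- (N3). -/
theorem N3 (hG : IsMinSimpleOddOrder G) {L : Subgroup G} (hL : IsCoatom L) {q : ℕ}
    [hq : Fact q.Prime] (hqL : q ∣ Nat.card L) (hβ : q ∉ beta L) {X Y : Subgroup G} (hXL : X ≤ L)
    (hX : IsPGroup q X) (hYq : ¬ q ∣ Nat.card Y) (hYX : Y ≤ normalizer (X : Set G))
    (hY : Y ≤ ⁅L, L⁆) : ⁅X, Y⁆ = ⊥ :=
  comm_eq_bot_of_normalPComplement (Helper34.BG13.le_normalizer_commutator_self L)
    (h1414 hG L hL q hq.out hqL hβ).1 hXL hX hY hYq hYX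

theorem isPGroup_of_card_eq {X : Subgroup G} {p : ℕ} [Fact p.Prime] (hX : Nat.card X = p) :
    IsPGroup p X := IsPGroup.of_card (n := 1) (by rw [hX, pow_one])

theorem ne_bot_of_card_eq {X : Subgroup G} {p : ℕ} (hp : p.Prime) (hX : Nat.card X = p) :
    X ≠ ⊥ := by
  rintro rfl
  rw [card_bot] at hX
  exact hp.one_lt.ne hX

theorem prime_eq_of_dvd_card_eq {X : Subgroup G} {p r : ℕ} (hp : p.Prime) (hX : Nat.card X = p)
    (hr : r.Prime) (hd : r ∣ Nat.card X) : r = p := by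
  rw [hX] at hd
  exact (Nat.prime_dvd_prime_iff_eq hr hp).1 hd

/-- In a subgroup of `p`-rank one the subgroups of order `p` are conjugate. -/
theorem order_p_conj {L P P' : Subgroup G} {p : ℕ} [hp : Fact p.Prime] (hr : PRankLE p 1 L)
    (hPL : P ≤ L) (hP : Nat.card P = p) (hPL' : P' ≤ L) (hP' : Nat.card P' = p) :
    ∃ l ∈ L, cj l P = P' := by
  obtain ⟨S, hS, hPS⟩ := exists_isSylowIn_ge hPL (isPGroup_of_card_eq hP)
  obtain ⟨S', hS', hPS'⟩ := exists_isSylowIn_ge hPL' (isPGroup_of_card_eq hP')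
  obtain ⟨c, hc, hcS⟩ := isSylowIn_exists_cj_eq hS' hS
  refine ⟨c, hc, ?_⟩
  apply Subgroup.eq_of_le_of_card_ge
  · rintro _ ⟨x, hx, rfl⟩
    apply mem_of_pRankLE_one hS'.2.1 (pRankLE_mono hS'.1 hr) hPS' hP'
    · rw [← hcS]
      exact ⟨x, hPS hx, rfl⟩
    · rw [← map_pow, pow_eq_one_of_card_prime hP hx, map_one]
  · rw [card_map_conj, hP, hP']

theorem le_comm_of_dvd {L P : Subgroup G} {p : ℕ} [hp : Fact p.Prime] (hr : PRankLE p 1 L)
    (hd : p ∣ Nat.card ↥⁅L, L⁆) (hPL : P ≤ L) (hP : Nat.card P = p) : P ≤ ⁅L, L⁆ := by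
  obtain ⟨y, hy⟩ := exists_prime_orderOf_dvd_card' p hd
  have hy' : orderOf (y : G) = p := by rw [Subgroup.orderOf_coe, hy]
  have hle : zpowers (y : G) ≤ ⁅L, L⁆ := zpowers_le.2 y.2
  obtain ⟨l, hl, hlP⟩ := order_p_conj hr (hle.trans (Subgroup.commutator_le_self L))
    (by rw [Nat.card_zpowers, hy']) hPL hP
  rw [← hlP]
  have h1 := cj_mono l hle
  rwa [show cj l ⁅L, L⁆ = ⁅L, L⁆ from map_conj_eq_self_of_mem_normalizer
    (Helper34.BG13.le_normalizer_commutator_self L hl)] at h1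

theorem tau_cases (hG : IsMinSimpleOddOrder G) {L : Subgroup G} (hL : IsCoatom L) {q : ℕ}
    (hq : q.Prime) (hd : q ∣ Nat.card L) (hσ : q ∉ sigma L) :
    q ∈ tau1 L ∨ q ∈ tau2 L ∨ q ∈ tau3 L := by
  by_cases h2 : q ∈ tau2 L
  · exact Or.inr (Or.inl h2)
  have h1 := pRankLE_one_of_not hG hL hq hσ h2
  by_cases h3 : q ∣ Nat.card ↥⁅L, L⁆
  · exact Or.inr (Or.inr ⟨hq, hσ, h3, h1⟩)
  · exact Or.inl ⟨hq, hσ, hd, h3, h1⟩

theorem not_rank_one_of_sq {L A : Subgroup G} {q : ℕ} (hq : q.Prime) (hAL : A ≤ L)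
    (hA : IsElementaryAbelian q A) (hAc : Nat.card A = q ^ 2) : ¬ PRankLE q 1 L := by
  intro h1
  have h2 := (pRankLE_iff L).1 h1 A hAL hA.1 hA.2
  rw [hAc, pow_one] at h2
  have := hq.one_lt
  nlinarith

/-- uniqueness of the maximal subgroup over `C(X)` gives `N(X) ≤ M`. -/
theorem norm_le_of_cent_uniq (hG : IsMinSimpleOddOrder G) {M X : Subgroup G} (hM : IsCoatom M)
    (h1 : centralizer (X : Set G) ≤ M)
    (h2 : ∀ L : Subgroup G, IsCoatom L → centralizer (X : Set G) ≤ L → L = M) :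
    normalizer (X : Set G) ≤ M := by
  intro g hg
  apply MS_mem_of_cj_eq hG hM
  apply h2 _ (isCoatom_cj hM g)
  have h3 := centralizer_map_conj g X
  rw [map_conj_eq_self_of_mem_normalizer hg] at h3
  rw [h3]
  exact cj_mono g h1

/-! ### L4 = BG 13.12 -/

theorem L4 (hG : IsMinSimpleOddOrder G) (h3 : HL3 G) {M E P A : Subgroup G} (hM : IsCoatom M)
    (hE : IsComplIn E (sigmaCore M) M) {p q : ℕ} (hp : p ∈ tau1 M) (hPE : P ≤ E)
    (hP : Nat.card P = p) (hq : q ∈ tau2 M) (hAE : A ≤ E) (hA : IsElementaryAbelian q A)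
    (hAc : Nat.card A = q ^ 2) (hne : A ⊓ centralizer (P : Set G) ≠ ⊥) :
    sigmaCore M ⊓ centralizer (P : Set G) = ⊥ := by
  by_contra hD
  haveI : Fact p.Prime := ⟨hp.1⟩
  haveI : Fact q.Prime := ⟨hq.1⟩
  have hU := ut hG
  have h17 := Cfsg.Agent.S1417.result hG M hM q hq A ⟨hAE.trans hE.1, hA, hAc⟩
  have h18 := Cfsg.Agent.S1418.result hG M hM E hE q hq A ⟨hAE, hA, hAc⟩
  have hpq : p ≠ q := by
    rintro rfl
    exact hq.2.2.2 hp.2.2.2.2
  set A0 := A ⊓ centralizer (P : Set G) with hA0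
  have h28 : ∀ R : Subgroup G, R ≤ A0 → Nat.card R = q →
      sigmaCore M ⊓ centralizer (P : Set G) ≤ sigmaCore M ⊓ centralizer (R : Set G) :=
    fun R hR hRc => Cfsg.Agent.S1428.result hG M hM E hE p hp P hPE hP R
      (le_inf (hR.trans (inf_le_left.trans hAE)) (hR.trans inf_le_right)) (hRc ▸ hq.1)
  have hA0c : Nat.card A0 = q := by
    have hd : Nat.card A0 ∣ q ^ 2 := hAc ▸ card_dvd_of_le inf_le_left
    obtain ⟨k, hk, hk'⟩ := (Nat.dvd_prime_pow hq.1).1 hd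
    interval_cases k
    · exact absurd (card_eq_one.1 (by simpa using hk')) hne
    · simpa using hk'
    · exfalso
      have hAA0 : A0 = A := Subgroup.eq_of_le_of_card_ge inf_le_left (by rw [hk', hAc])
      obtain ⟨A₁, hA₁, hA₁c, hA₁b⟩ := h17.2.2.2.2.2
      exact hD (le_bot_iff.1 (hA₁b ▸ h28 A₁ (hAA0 ▸ hA₁) hA₁c))
  have hDA0 := h28 A0 le_rfl hA0c
  have hA0ne : sigmaCore M ⊓ centralizer (A0 : Set G) ≠ ⊥ := fun e => hD (le_bot_iff.1 (e ▸ hDA0))
  obtain ⟨hCA0, hCA0u⟩ := h18.2.2 A0 inf_le_left hA0c hA0ne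
  have hAP : ¬ A ≤ centralizer (P : Set G) := by
    intro h
    have h1 : A0 = A := inf_eq_left.2 h
    rw [h1, hAc] at hA0c
    have := hq.1.one_lt
    nlinarith
  have hAbot : A ≠ ⊥ := by
    rintro rfl
    exact hAP bot_le
  have hAtop : A ≠ ⊤ := fun e => hM.1 (top_le_iff.1 (e ▸ hAE.trans hE.1))
  obtain ⟨L, hL, hNL⟩ := exists_coatom_ge (MS_normalizer_ne_top hG hAbot hAtop)
  have hLM : L ≠ M := fun e => h18.2.1.2.2 (e ▸ hNL)
  have hEL : E ≤ L := h18.1.1.trans hNL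
  have hAL : A ≤ L := hAE.trans hEL
  have hMsL : sigmaCore M ⊓ L = ⊥ := h17.2.2.2.2.1 L hL hLM hAL
  have hApg : IsPGroup q A := isPGroup_of_exponent hA.2
  have hPpg : IsPGroup p P := isPGroup_of_card_eq hP
  have hqL : q ∈ sigma L := by
    by_contra hqσ
    have hqτ : q ∈ tau2 L := by
      by_contra hτ
      exact not_rank_one_of_sq hq.1 hAL hA hAc (pRankLE_one_of_not hG hL hq.1 hqσ hτ)
    obtain ⟨EL, hEL', hAEL⟩ := exists_compl_ge hG hU hL hAL (by
      intro r hr hd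
      rw [prime_eq_of_dvd_card_isPGroup hr hApg hd]
      exact hqσ)
    exact (Cfsg.Agent.S1418.result hG L hL EL hEL' q hqτ A ⟨hAEL, hA, hAc⟩).2.1.2.2 hNL
  have hqβ : q ∉ beta L := fun h =>
    (Cfsg.Agent.S1408.result hG M hM q hq.2.1 hq.2.2.1 hq.2.2.2).1 h.2
  have hPL : P ≤ L := hPE.trans hEL
  have hPL' : ¬ P ≤ ⁅L, L⁆ := by
    intro h
    have h1 := N3 hG hL hqL.2.1 hqβ hAL hApg (by
      rw [hP]
      exact fun hd => hpq ((Nat.prime_dvd_prime_iff_eq hq.1 hp.1).1 hd).symm)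
      (hPE.trans h18.1.1) h
    exact hAP ((commutator_eq_bot_iff_le_centralizer).1 h1)
  have hpσL : p ∉ sigma L := fun h => hPL' ((le_sc hG hU hL h hPL hPpg).trans (sc_le_comm hG hL))
  have hA0Lσ : A0 ≤ sigmaCore L :=
    le_sc hG hU hL hqL (inf_le_left.trans hAL) (isPGroup_of_card_eq hA0c)
  have hne' : sigmaCore L ⊓ centralizer (P : Set G) ≠ ⊥ := fun e =>
    hne (le_bot_iff.1 (e ▸ le_inf hA0Lσ inf_le_right))
  have hpτ2 : p ∉ tau2 L := by
    intro hτ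
    obtain ⟨EL, hEL', hPEL⟩ := exists_compl_ge hG hU hL hPL (by
      intro r hr hd
      rw [prime_eq_of_dvd_card_isPGroup hr hPpg hd]
      exact hpσL)
    obtain ⟨B, hBE, hB, hBc⟩ := exists_elemAb_sq_compl hEL' hτ
    have h18L := Cfsg.Agent.S1418.result hG L hL EL hEL' p hτ B ⟨hBE, hB, hBc⟩
    have hPB : P ≤ B := h18L.1.2 P hPEL hP
    have hCP := (h18L.2.2 P hPB hP hne').1
    exact hD (le_bot_iff.1 (hMsL ▸ le_inf inf_le_left (inf_le_right.trans hCP)))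
  have hr1 : PRankLE p 1 L := pRankLE_one_of_not hG hL hp.1 hpσL hpτ2
  have hpτ1 : p ∈ tau1 L := ⟨hp.1, hpσL, hP ▸ card_dvd_of_le hPL,
    fun hd => hPL' (le_comm_of_dvd hr1 hd hPL hP), hr1⟩
  have hN := h3 L hL p hpτ1 P hPL hP A0 (le_inf hA0Lσ inf_le_right) (hA0c ▸ hq.1)
  exact hLM (hCA0u L hL ((centralizer_le_normalizer' A0).trans hN))

/-! ### Facts on `κ(M)` -/

/-- `M` has `p`-rank one for `p ∈ κ(M)`. -/
theorem kappa_rank {M : Subgroup G} {p : ℕ} (hp : p ∈ kappa M) : PRankLE p 1 M := by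
  haveI : Fact p.Prime := ⟨hp.1⟩
  obtain ⟨S⟩ : Nonempty (Sylow p M) := inferInstance
  haveI := (hp.2.2.2 S).1
  apply pRankLE_of_isSylowIn (Sylow.isSylowIn_map S)
  haveI : IsCyclic ((S : Subgroup M).map M.subtype) :=
    isCyclic_of_surjective
      ((S : Subgroup M).equivMapOfInjective M.subtype M.subtype_injective).toMonoidHom
      (MulEquiv.surjective _)
  exact pRankLE_one_of_isCyclic hp.1.pos

/-- `C_{M_σ}(P) ≠ 1` for `P ≤ M` of order `p ∈ κ(M)`. -/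
theorem kappa_cent_ne_bot {M P : Subgroup G} {p : ℕ} (hp : p ∈ kappa M) (hPM : P ≤ M)
    (hP : Nat.card P = p) : sigmaCore M ⊓ centralizer (P : Set G) ≠ ⊥ := by
  haveI : Fact p.Prime := ⟨hp.1⟩
  obtain ⟨S, hS, hPS⟩ := exists_isSylowIn_ge hPM (isPGroup_of_card_eq hP)
  obtain ⟨hc, x, hx, hx1, y, hy, hy1, hxy⟩ := hp.2.2.2 hS.toSylow
  have hxS : (x : G) ∈ S := by
    rw [← SetLike.mem_coe, IsSylowIn.coe_toSylow] at hx
    exact hx
  have hx1' : (x : G) ≠ 1 := fun e => hx1 (Subtype.ext e)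
  obtain ⟨z, hz, hzp⟩ := BG147A.exists_prime_pow hx1'
  have hzS : z ∈ S := (zpowers_le.2 hxS) hz
  have hzo : orderOf z = p := by
    obtain ⟨k, hk⟩ := hS.2.1 ⟨z, hzS⟩
    have h1 : z ^ p ^ k = 1 := congrArg Subtype.val hk
    exact (Nat.prime_dvd_prime_iff_eq hzp hp.1).1 (hzp.dvd_of_dvd_pow (orderOf_dvd_of_pow_eq_one h1))
  have hz1 : z ≠ 1 := fun e => by
    rw [e, orderOf_one] at hzo
    exact hp.1.one_lt.ne hzo
  have hzP : z ∈ P := mem_of_pRankLE_one hS.2.1 (pRankLE_mono hS.1 (kappa_rank hp)) hPS hP hzS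
    (by rw [← hzo, pow_orderOf_eq_one])
  have hPz : P = zpowers z := eq_zpowers_of_card_prime hp.1 hP hzP hz1
  intro hbot
  apply hy1
  rw [← mem_bot, ← hbot]
  refine mem_inf.2 ⟨hy, ?_⟩
  rw [mem_centralizer_iff]
  intro w hw
  have hw' : w ∈ zpowers (x : G) := (zpowers_le.2 hz) (hPz ▸ hw)
  obtain ⟨i, rfl⟩ := mem_zpowers_iff.1 hw'
  have h2 : Commute (x : G) y := hxy
  exact (h2.zpow_left i).eq

/-! ### The normalizer of an elementary abelian subgroup of order `p ^ 2` -/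

omit [Finite G] in
theorem mem_of_pow_mem_coprime {C : Subgroup G} {x : G} {m n : ℕ} (h : Nat.Coprime m n)
    (hm : x ^ m ∈ C) (hn : x ^ n ∈ C) : x ∈ C := by
  have h1 := Nat.gcd_eq_gcd_ab m n
  rw [h] at h1
  have h2 : x = (x ^ m) ^ (Nat.gcdA m n) * (x ^ n) ^ (Nat.gcdB m n) := by
    rw [← zpow_natCast, ← zpow_natCast, ← zpow_mul, ← zpow_mul, ← zpow_add, ← h1]
    simp
  rw [h2]
  exact C.mul_mem (C.zpow_mem hm _) (C.zpow_mem hn _)

omit [Finite G] in
theorem isPGroup_zpowers_of_pow {p a : ℕ} {y : G} (h : y ^ p ^ a = 1) : IsPGroup p (zpowers y) := by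
  rintro ⟨w, hw⟩
  obtain ⟨i, rfl⟩ := mem_zpowers_iff.1 hw
  refine ⟨a, Subtype.ext ?_⟩
  show (y ^ i) ^ p ^ a = 1
  rw [← zpow_natCast, ← zpow_mul, mul_comm, zpow_mul, zpow_natCast, h, one_zpow]

/-- If the Sylow `p`-subgroups of `G` are abelian, then `N(A)' ≤ C(A)`. -/
theorem comm_norm_le_cent (hG : IsMinSimpleOddOrder G) {p : ℕ} [hp : Fact p.Prime]
    {A : Subgroup G} (hA : IsElementaryAbelian p A) (hAc : Nat.card A = p ^ 2)
    (hAtop : normalizer (A : Set G) ≠ ⊤) (S : Sylow p G) (hS : IsMulCommutative (S : Subgroup G)) :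
    ⁅normalizer (A : Set G), normalizer (A : Set G)⁆ ≤ centralizer (A : Set G) := by
  have hApg : IsPGroup p A := isPGroup_of_exponent hA.2
  have hp2 : p ≠ 2 := MS_prime_ne_two hG (H := A) (by rw [hAc]; exact dvd_pow_self p two_ne_zero)
  intro x hx
  have hxN : x ∈ normalizer (A : Set G) := Subgroup.commutator_le_self _ hx
  obtain ⟨k, hk⟩ := rank2_commutator p hp2 A (normalizer (A : Set G)) hApg
    (fun F hF _ _ => hAc ▸ Subgroup.card_le_of_le hF) le_rfl (MS_odd hG _)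
    (MS_solvable hG hAtop) x hx
  obtain ⟨m, a, hm, hma⟩ := exists_pPart p x
  have hT : IsPGroup p (zpowers (x ^ m) ⊔ A : Subgroup G) :=
    IsPGroup.to_sup_of_normal_right' (isPGroup_zpowers_of_pow hma) hApg
      (zpowers_le.2 (pow_mem hxN m))
  obtain ⟨n, -, hn⟩ := (Sylow.isSylowIn_top S).exists_conj_le le_top hT
  have hxm : x ^ m ∈ centralizer (A : Set G) := by
    rw [mem_centralizer_iff]
    intro b hb
    have h1 : n * b * n⁻¹ ∈ (S : Subgroup G) := hn (conj_mem_map_conj (mem_sup_right hb))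
    have h2 : n * x ^ m * n⁻¹ ∈ (S : Subgroup G) :=
      hn (conj_mem_map_conj (mem_sup_left (mem_zpowers _)))
    have h3 : (n * b * n⁻¹) * (n * x ^ m * n⁻¹) = (n * x ^ m * n⁻¹) * (n * b * n⁻¹) :=
      congrArg Subtype.val (hS.is_comm.comm ⟨_, h1⟩ ⟨_, h2⟩)
    have h4 : n * (b * x ^ m) * n⁻¹ = n * (x ^ m * b) * n⁻¹ := by
      calc n * (b * x ^ m) * n⁻¹ = (n * b * n⁻¹) * (n * x ^ m * n⁻¹) := by group
        _ = (n * x ^ m * n⁻¹) * (n * b * n⁻¹) := h3
        _ = _ := by group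
    exact mul_left_cancel (mul_right_cancel h4)
  exact mem_of_pow_mem_coprime
    (Nat.Coprime.pow_right k ((Nat.Prime.coprime_iff_not_dvd hp.out).2 hm).symm) hxm hk

/-- If `N(A)' ≤ C(A)` then `N(A)` normalizes `[A,Q]` for all `Q ≤ N(A)`. -/
theorem norm_le_norm_comm {A Q : Subgroup G} (hQ : Q ≤ normalizer (A : Set G))
    (h : ⁅normalizer (A : Set G), normalizer (A : Set G)⁆ ≤ centralizer (A : Set G)) :
    normalizer (A : Set G) ≤ normalizer ((⁅A, Q⁆ : Subgroup G) : Set G) := by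
  intro g hg
  apply mem_normalizer_of_map_conj_eq
  apply Subgroup.eq_of_le_of_card_ge _ (by rw [card_map_conj])
  rw [Subgroup.map_commutator, map_conj_eq_self_of_mem_normalizer hg, Subgroup.commutator_le]
  rintro a ha _ ⟨z, hz, rfl⟩
  have hc : ⁅g, z⁆ ∈ centralizer (A : Set G) := h (commutator_mem_commutator hg (hQ hz))
  have haz : ⁅a, z⁆ ∈ A := by
    rw [commutatorElement_def, mul_assoc, mul_assoc, ← mul_assoc z]
    exact A.mul_mem ha ((mem_normalizer_iff.1 (hQ hz) _).1 (A.inv_mem ha))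
  have e : ⁅a, (MulAut.conj g).toMonoidHom z⁆ = ⁅a, z⁆ := by
    have h1 : (MulAut.conj g).toMonoidHom z = ⁅g, z⁆ * z := by
      simp [commutatorElement_def, MulAut.conj_apply]
    rw [h1]
    have h2 := (mem_centralizer_iff.1 hc) a ha
    have h3 := (mem_centralizer_iff.1 hc) _ haz
    generalize ⁅g, z⁆ = c at h2 h3
    calc ⁅a, c * z⁆ = (a * c) * z * a⁻¹ * z⁻¹ * c⁻¹ := by
          simp [commutatorElement_def, mul_assoc]
      _ = (c * a) * z * a⁻¹ * z⁻¹ * c⁻¹ := by rw [h2]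
      _ = (c * ⁅a, z⁆) * c⁻¹ := by simp [commutatorElement_def, mul_assoc]
      _ = (⁅a, z⁆ * c) * c⁻¹ := by rw [h3]
      _ = ⁅a, z⁆ := by group
  rw [e]
  exact commutator_mem_commutator ha hz

/-! ### L5 = BG 14.2(b2) -/

theorem coprime_compl (hG : IsMinSimpleOddOrder G) {M E : Subgroup G} (hM : IsCoatom M)
    (hE : IsComplIn E (sigmaCore M) M) : (Nat.card (sigmaCore M)).Coprime (Nat.card E) :=
  Nat.coprime_of_dvd fun k hk h1 h2 => compl_not_sigma hG (ut hG) hM hE hk h2 (sc_primes M hk h1)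

theorem L5 (hG : IsMinSimpleOddOrder G) (h3 : HL3 G) {M P H : Subgroup G} (hM : IsCoatom M)
    {p : ℕ} (hp : p ∈ kappa M) (hPM : P ≤ M) (hP : Nat.card P = p) (hH : IsCoatom H)
    (hNH : normalizer (P : Set G) ≤ H) : p ∈ sigma H := by
  by_contra hpσ
  haveI : Fact p.Prime := ⟨hp.1⟩
  have hU := ut hG
  have h09 := Cfsg.Agent.S1409.result hG H hH p hpσ P hP hNH
  have hpτ : p ∈ tau2 H := ⟨hp.1, hpσ, h09.1.1, h09.1.2⟩
  have hrM : PRankLE p 1 M := kappa_rank hp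
  have hD := kappa_cent_ne_bot hp hPM hP
  have hPH : P ≤ H := le_normalizer.trans hNH
  have hDH : sigmaCore M ⊓ centralizer (P : Set G) ≤ H :=
    inf_le_right.trans ((centralizer_le_normalizer' P).trans hNH)
  have hnc : ∀ g, H ≠ cj g M := fun g hg => hpτ.2.2.2 (hg ▸ pRankLE_cj g hrM)
  have hdis : ∀ r, r ∈ sigma M → r ∉ sigma H := fun r h1 h2 => by
    obtain ⟨g, hg⟩ := h139 hG M H hM hH ⟨r, h1, h2⟩
    exact hnc g hg
  obtain ⟨q, hq, hqD⟩ := Nat.exists_prime_and_dvd (fun e => hD (card_eq_one.1 e))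
  haveI : Fact q.Prime := ⟨hq⟩
  obtain ⟨z, hz⟩ := exists_prime_orderOf_dvd_card' q hqD
  obtain ⟨Q, hQdef⟩ : ∃ Q, Q = zpowers (z : G) := ⟨_, rfl⟩
  have hQc : Nat.card Q = q := by rw [hQdef, Nat.card_zpowers, Subgroup.orderOf_coe, hz]
  have hQD : Q ≤ sigmaCore M ⊓ centralizer (P : Set G) := by
    rw [hQdef]
    exact zpowers_le.2 z.2
  have hqσM : q ∈ sigma M := sc_primes M hq (hqD.trans (card_dvd_of_le inf_le_left))
  have hqσH : q ∉ sigma H := hdis q hqσM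
  have hpq : p ≠ q := fun e => hp.2.2.1 (e ▸ hqσM)
  have hQP : Q ≤ centralizer (P : Set G) := hQD.trans inf_le_right
  have hQH : Q ≤ H := hQD.trans hDH
  have hQM : Q ≤ M := hQD.trans (inf_le_left.trans (sc_le M))
  have hQpg : IsPGroup q Q := isPGroup_of_card_eq hQc
  have hPpg : IsPGroup p P := isPGroup_of_card_eq hP
  have hQbot : Q ≠ ⊥ := ne_bot_of_card_eq hq hQc
  have hPbot : P ≠ ⊥ := ne_bot_of_card_eq hp.1 hP
  have hQtop : Q ≠ ⊤ := fun e => hM.1 (top_le_iff.1 (e ▸ hQM))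
  obtain ⟨EH, hEH, hQPE⟩ := exists_compl_ge hG hU hH (sup_le hQH hPH : Q ⊔ P ≤ H) (by
    intro r hr hd
    rcases BG13BC.prime_dvd_card_sup (hQP.trans (centralizer_le_normalizer' P)) hr hd with h | h
    · rw [prime_eq_of_dvd_card_eq hq hQc hr h]
      exact hqσH
    · rw [prime_eq_of_dvd_card_eq hp.1 hP hr h]
      exact hpσ)
  obtain ⟨A, hAE, hA, hAc⟩ := exists_elemAb_sq_compl hEH hpτ
  have h18 := Cfsg.Agent.S1418.result hG H hH EH hEH p hpτ A ⟨hAE, hA, hAc⟩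
  have hPE : P ≤ EH := le_sup_right.trans hQPE
  have hQE : Q ≤ EH := le_sup_left.trans hQPE
  have hPA : P ≤ A := h18.1.2 P hPE hP
  have hQNA : Q ≤ normalizer (A : Set G) := hQE.trans h18.1.1
  have hApg : IsPGroup p A := isPGroup_of_exponent hA.2
  have hAH : A ≤ H := hAE.trans hEH.1
  -- `[A,Q] ≠ 1`
  have hAQ : ¬ A ≤ centralizer (Q : Set G) := by
    intro h
    obtain ⟨L, hL, hNL⟩ := exists_coatom_ge (MS_normalizer_ne_top hG hQbot hQtop)
    have hAL : A ≤ L := h.trans ((centralizer_le_normalizer' Q).trans hNL)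
    have hLM : L ≠ M := by
      rintro rfl
      exact not_rank_one_of_sq hp.1 hAL hA hAc hrM
    obtain ⟨-, hcompl⟩ := tau2_compl hG (h139 hG) hM hL hLM hqσM hQpg hQbot hQM hNL
    have hPL : P ≤ L := hPA.trans hAL
    have hpσL : p ∉ sigma L := compl_not_sigma hG hU hL hcompl hp.1
      (hP ▸ card_dvd_of_le (le_inf hPM hPL))
    obtain ⟨T, hT, -⟩ := exists_isSylowIn_ge (bot_le : (⊥ : Subgroup G) ≤ M ⊓ L)
      (IsPGroup.of_bot (p := p))
    have hTL := compl_sylow hcompl hpσL hT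
    obtain ⟨n, hn, hnA⟩ := hTL.exists_conj_le hAL hApg
    exact not_rank_one_of_sq hp.1 (hnA.trans (hT.1.trans inf_le_left))
      (Helper47.IsElementaryAbelian.cj hA n) (by rw [card_map_conj, hAc]) hrM
  have hcases : ∀ B : Subgroup G, B ≤ A → Nat.card B = 1 ∨ Nat.card B = p ∨ Nat.card B = p ^ 2 := by
    intro B hB
    have hd : Nat.card B ∣ p ^ 2 := hAc ▸ card_dvd_of_le hB
    obtain ⟨k, hk, hk'⟩ := (Nat.dvd_prime_pow hp.1).1 hd
    interval_cases k
    · left; simpa using hk'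
    · right; left; simpa using hk'
    · right; right; exact hk'
  have hCAQ : A ⊓ centralizer (Q : Set G) = P := by
    symm
    apply Subgroup.eq_of_le_of_card_ge (le_inf hPA (le_centralizer_iff.1 hQP))
    rcases hcases _ inf_le_left with h | h | h
    · rw [h, hP]; exact hp.1.one_lt.le
    · rw [h, hP]
    · exfalso
      apply hAQ
      have : A ⊓ centralizer (Q : Set G) = A :=
        Subgroup.eq_of_le_of_card_ge inf_le_left (by rw [h, hAc])
      rw [← this]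
      exact inf_le_right
  obtain ⟨P1, hP1def⟩ : ∃ P1, P1 = ⁅A, Q⁆ := ⟨_, rfl⟩
  have hP1A : P1 ≤ A := hP1def ▸ le_normalizer_iff_commutator_le_left.1 hQNA
  have hqA : ¬ q ∣ Nat.card A := by
    rw [hAc]
    exact fun hd => hpq ((Nat.prime_dvd_prime_iff_eq hq hp.1).1 (hq.dvd_of_dvd_pow hd)).symm
  have hsup : P1 ⊔ (A ⊓ centralizer (Q : Set G)) = A :=
    hP1def ▸ Helper22.commutator_sup_centralizer Q A hQpg hqA hQNA
  have hinf : P1 ⊓ centralizer (Q : Set G) = ⊥ := by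
    rw [hP1def]
    apply Helper48.commutator_inf_centralizer_eq_bot hA.1 hQNA
    intro v hv hvq
    rw [hQc] at hvq
    have : v ∈ (⊥ : Subgroup G) := mem_of_pow_mem_coprime
      ((Nat.coprime_primes hp.1 hq).2 hpq) (by rw [hA.2 v hv]; exact one_mem _)
      (by rw [hvq]; exact one_mem _)
    exact mem_bot.1 this
  have hP1c : Nat.card P1 = p := by
    rcases hcases P1 hP1A with h | h | h
    · exfalso
      rw [card_eq_one.1 h, bot_sup_eq, hCAQ] at hsup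
      rw [← hsup, hP] at hAc
      have := hp.1.one_lt
      nlinarith
    · exact h
    · exfalso
      have h1 : P1 = A := Subgroup.eq_of_le_of_card_ge hP1A (by rw [h, hAc])
      rw [h1, hCAQ] at hinf
      exact hPbot hinf
  have hP1bot : P1 ≠ ⊥ := ne_bot_of_card_eq hp.1 hP1c
  have hfpf := BG13BC.fpf_of_inf hq hQc hinf
  -- `q ∈ τ₁(H)`
  have hqτ1 : q ∈ tau1 H := by
    rcases tau_cases hG hH hq (hQc ▸ card_dvd_of_le hQH) hqσH with h | h | h
    · exact h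
    · exfalso
      obtain ⟨B, hBE, hB, hBc⟩ := exists_elemAb_sq_compl hEH h
      have h18q := Cfsg.Agent.S1418.result hG H hH EH hEH q h B ⟨hBE, hB, hBc⟩
      have hQB : Q ≤ B := h18q.1.2 Q hQE hQc
      have h1 := le_centralizer_of_normalize_coprime (hAE.trans h18q.1.1) (hBE.trans h18.1.1)
        (Helper91.BG13.coprime_card_of_isPGroup hpq hApg (isPGroup_of_exponent hB.2))
      exact hAQ (h1.trans (centralizer_le hQB))
    · exfalso
      obtain ⟨E3, hE3, hQE3⟩ := BG147A.hall_ge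
        (MS_solvable hG (ne_top_of_le_ne_top hH.1 hEH.1)) hQE (π := tau3 H) (by
          intro r hr hd
          rw [prime_eq_of_dvd_card_eq hq hQc hr hd]
          exact h)
      have hE3' := ((Cfsg.Agent.S1415.result hG H hH EH hEH).2.2 E3 hE3).2.1
      exact hAQ (tau2_centralizes hG hH hEH hpτ hAE hA hAc hQpg (hQE3.trans hE3'))
  have hCQ : sigmaCore H ⊓ centralizer (Q : Set G) = ⊥ :=
    L4 hG h3 hH hEH hqτ1 hQE hQc hpτ hAE hA hAc (by rw [hCAQ]; exact hPbot)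
  have hHN := sc_norm H
  have hcent : sigmaCore H ≤ centralizer (P1 : Set G) :=
    BG13F.frob_centralizes hP1bot hQbot (hP1def ▸ normalizer_commutator_ge_right A Q) hfpf
      ((hP1A.trans hAH).trans hHN) (hQH.trans hHN)
      (MS_solvable hG (ne_top_of_le_ne_top hH.1 (sc_le H)))
      (Nat.Coprime.coprime_dvd_right (card_dvd_of_le (sup_le (hP1A.trans hAE) hQE))
        (coprime_compl hG hH hEH)) (by rw [hCQ]; exact bot_le)
  have hHσ : sigmaCore H ≠ ⊥ := Helper23T.sc_ne_bot hG hU hH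
  obtain ⟨hC1, hC1u⟩ := h18.2.2 P1 hP1A hP1c (by rw [inf_eq_left.2 hcent]; exact hHσ)
  have hNP1 : normalizer (P1 : Set G) ≤ H := norm_le_of_cent_uniq hG hH hC1 hC1u
  have hPP1 : P ≠ P1 := by
    intro e
    have h1 : P1 ≤ P1 ⊓ centralizer (Q : Set G) := le_inf le_rfl (e ▸ le_centralizer_iff.1 hQP)
    rw [hinf] at h1
    exact hP1bot (le_bot_iff.1 h1)
  by_cases hS : ∀ S : Sylow p G, ¬ IsMulCommutative (S : Subgroup G)
  · have h19 := Cfsg.Agent.S1419.result hG H hH EH hEH p hpτ hS A ⟨hAE, hA, hAc⟩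
    have h1 : P1 = A ⊓ centralizer (sigmaCore H : Set G) :=
      Subgroup.eq_of_le_of_card_ge (le_inf hP1A (le_centralizer_iff.1 hcent))
        (by rw [h19.2.1.1, hP1c])
    exact (h19.2.2 P hPE hP (h1 ▸ hPP1)).2 ((centralizer_le_normalizer' P).trans hNH)
  · push Not at hS
    obtain ⟨S, hS⟩ := hS
    have hAbot : A ≠ ⊥ := fun e => hPbot (le_bot_iff.1 (e ▸ hPA))
    have hAtop : A ≠ ⊤ := fun e => hH.1 (top_le_iff.1 (e ▸ hAH))
    have h1 := comm_norm_le_cent hG hA hAc (MS_normalizer_ne_top hG hAbot hAtop) S hS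
    have h2 := norm_le_norm_comm hQNA h1
    rw [← hP1def] at h2
    exact h18.2.1.2.2 (h2.trans hNP1)

/-! ### L6: the partner -/

omit [Finite G] in
theorem inf_normalizer_le (A B : Subgroup G) :
    normalizer (A : Set G) ⊓ normalizer (B : Set G) ≤ normalizer ((A ⊓ B : Subgroup G) : Set G) := by
  intro x hx
  rw [mem_normalizer_iff]
  intro y
  rw [mem_inf, mem_inf, ← (mem_normalizer_iff.1 hx.1 y), ← (mem_normalizer_iff.1 hx.2 y)]

/-- L6, first part: `H` is not conjugate to `M`, `σ(M) ∩ σ(H) = ∅`, `P ≤ H_σ`, (a) `M_σ ∩ H = C_{M_σ}(P)`. -/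
theorem L6a (hG : IsMinSimpleOddOrder G) (h3 : HL3 G) {M P H : Subgroup G} (hM : IsCoatom M)
    {p : ℕ} (hp : p ∈ kappa M) (hPM : P ≤ M) (hP : Nat.card P = p) (hH : IsCoatom H)
    (hNH : normalizer (P : Set G) ≤ H) :
    (∀ g : G, H ≠ cj g M) ∧ (∀ r, r ∈ sigma M → r ∉ sigma H) ∧ P ≤ sigmaCore H ∧
      sigmaCore M ⊓ H = sigmaCore M ⊓ centralizer (P : Set G) := by
  haveI : Fact p.Prime := ⟨hp.1⟩
  have hU := ut hG
  have hpσH := L5 hG h3 hM hp hPM hP hH hNH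
  have hnc : ∀ g : G, H ≠ cj g M := fun g hg => hp.2.2.1 ((sigma_cj_iff g).1 (hg ▸ hpσH))
  have hdis : ∀ r, r ∈ sigma M → r ∉ sigma H := fun r h1 h2 => by
    obtain ⟨g, hg⟩ := h139 hG M H hM hH ⟨r, h1, h2⟩
    exact hnc g hg
  have hPH : P ≤ H := le_normalizer.trans hNH
  have hPσ : P ≤ sigmaCore H := le_sc hG hU hH hpσH hPH (isPGroup_of_card_eq hP)
  refine ⟨hnc, hdis, hPσ, le_antisymm (le_inf inf_le_left ?_)
    (le_inf inf_le_left (inf_le_right.trans ((centralizer_le_normalizer' P).trans hNH)))⟩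
  have hMH1 : M ⊓ H ≤ normalizer ((sigmaCore M ⊓ H : Subgroup G) : Set G) :=
    (le_inf (inf_le_left.trans (sc_norm M)) (inf_le_right.trans le_normalizer)).trans
      (inf_normalizer_le _ _)
  have hMH2 : M ⊓ H ≤ normalizer ((sigmaCore H ⊓ M : Subgroup G) : Set G) :=
    (le_inf (inf_le_right.trans (sc_norm H)) (inf_le_left.trans le_normalizer)).trans
      (inf_normalizer_le _ _)
  have hcop : (Nat.card ↥(sigmaCore M ⊓ H)).Coprime (Nat.card ↥(sigmaCore H ⊓ M)) :=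
    Nat.coprime_of_dvd fun k hk h1 h2 =>
      hdis k (sc_primes M hk (h1.trans (card_dvd_of_le inf_le_left)))
        (sc_primes H hk (h2.trans (card_dvd_of_le inf_le_left)))
  have h1 := le_centralizer_of_normalize_coprime
    ((le_inf (inf_le_left.trans (sc_le M)) inf_le_right : sigmaCore M ⊓ H ≤ M ⊓ H).trans hMH2)
    ((le_inf inf_le_right (inf_le_left.trans (sc_le H)) : sigmaCore H ⊓ M ≤ M ⊓ H).trans hMH1) hcop
  exact h1.trans (centralizer_le (le_inf hPσ hPM))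

/-- L6(b): the primes of `C_{M_σ}(P)` lie in `κ(H)`, more precisely in `τ₁(H) ∪ τ₃(H)`. -/
theorem L6b (hG : IsMinSimpleOddOrder G) (h3 : HL3 G) {M P H : Subgroup G} (hM : IsCoatom M)
    {p : ℕ} (hp : p ∈ kappa M) (hPM : P ≤ M) (hP : Nat.card P = p) (hH : IsCoatom H)
    (hNH : normalizer (P : Set G) ≤ H) {q : ℕ} (hq : q.Prime)
    (hqD : q ∣ Nat.card ↥(sigmaCore M ⊓ centralizer (P : Set G))) :
    q ∈ kappa H ∧ (q ∈ tau1 H ∨ q ∈ tau3 H) := by
  haveI : Fact p.Prime := ⟨hp.1⟩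
  haveI : Fact q.Prime := ⟨hq⟩
  have hU := ut hG
  obtain ⟨hnc, hdis, hPσ, ha⟩ := L6a hG h3 hM hp hPM hP hH hNH
  obtain ⟨z, hz⟩ := exists_prime_orderOf_dvd_card' q hqD
  obtain ⟨Q, hQdef⟩ : ∃ Q, Q = zpowers (z : G) := ⟨_, rfl⟩
  have hQc : Nat.card Q = q := by rw [hQdef, Nat.card_zpowers, Subgroup.orderOf_coe, hz]
  have hQD : Q ≤ sigmaCore M ⊓ centralizer (P : Set G) := by
    rw [hQdef]
    exact zpowers_le.2 z.2
  have hzQ : (z : G) ∈ Q := hQdef ▸ mem_zpowers _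
  have hz1 : (z : G) ≠ 1 := by
    intro e
    have : z = 1 := Subtype.ext e
    rw [this, orderOf_one] at hz
    exact hq.one_lt.ne hz
  have hqσM : q ∈ sigma M := sc_primes M hq (hqD.trans (card_dvd_of_le inf_le_left))
  have hqσH : q ∉ sigma H := hdis q hqσM
  have hQP : Q ≤ centralizer (P : Set G) := hQD.trans inf_le_right
  have hQH : Q ≤ H := hQP.trans ((centralizer_le_normalizer' P).trans hNH)
  have hQM : Q ≤ M := hQD.trans (inf_le_left.trans (sc_le M))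
  have hQpg : IsPGroup q Q := isPGroup_of_card_eq hQc
  have hQbot : Q ≠ ⊥ := ne_bot_of_card_eq hq hQc
  have hPbot : P ≠ ⊥ := ne_bot_of_card_eq hp.1 hP
  have hqH : q ∣ Nat.card H := hQc ▸ card_dvd_of_le hQH
  have hHM : H ≠ M := fun e => hnc 1 (by rw [cj_one]; exact e)
  have hτ2 : q ∉ tau2 H := by
    intro h
    obtain ⟨EH, hEH, hQE⟩ := exists_compl_ge hG hU hH hQH (by
      intro r hr hd
      rw [prime_eq_of_dvd_card_eq hq hQc hr hd]
      exact hqσH)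
    obtain ⟨B, hBE, hB, hBc⟩ := exists_elemAb_sq_compl hEH h
    have h18 := Cfsg.Agent.S1418.result hG H hH EH hEH q h B ⟨hBE, hB, hBc⟩
    have hQB : Q ≤ B := h18.1.2 Q hQE hQc
    obtain ⟨hC, hCu⟩ := h18.2.2 Q hQB hQc (fun e =>
      hPbot (le_bot_iff.1 (e ▸ le_inf hPσ (le_centralizer_iff.1 hQP))))
    have hNQ := norm_le_of_cent_uniq hG hH hC hCu
    obtain ⟨-, hcompl⟩ := tau2_compl hG (h139 hG) hM hH hHM hqσM hQpg hQbot hQM hNQ
    exact hPbot (le_bot_iff.1 (hcompl.2.2.1 ▸ le_inf (le_inf hPM (hPσ.trans (sc_le H))) hPσ))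
  have hτ : q ∈ tau1 H ∨ q ∈ tau3 H := by
    rcases tau_cases hG hH hq hqH hqσH with h | h | h
    · exact Or.inl h
    · exact absurd h hτ2
    · exact Or.inr h
  have hr1 : PRankLE q 1 H := pRankLE_one_of_not hG hH hq hqσH hτ2
  refine ⟨⟨hq, hqH, hqσH, fun S => ⟨?_, ?_⟩⟩, hτ⟩
  · apply isCyclic_of_pRankLE_one (MS_prime_ne_two hG hqH) S.2
    exact (Helper23.pRankLE_congr q 1
      ((S : Subgroup H).equivMapOfInjective H.subtype H.subtype_injective)).2
      (pRankLE_mono (map_subtype_le _) hr1)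
  · obtain ⟨n, hn, hnQ⟩ := (Sylow.isSylowIn_map S).exists_conj_le hQH hQpg
    obtain ⟨w, hw, hw1⟩ := exists_ne_one_of_card_prime hp.1 hP
    obtain ⟨x, hxS, hx⟩ := hnQ (conj_mem_map_conj (g := n) hzQ)
    refine ⟨x, hxS, ?_, n * w * n⁻¹, ?_, ?_, ?_⟩
    · rintro rfl
      apply hz1
      have h1 : n * (z : G) * n⁻¹ = 1 := by rw [← hx]; rfl
      have h2 : (z : G) = n⁻¹ * (n * (z : G) * n⁻¹) * n := by group
      rw [h2, h1]
      group
    · exact (mem_normalizer_iff.1 (sc_norm H hn) w).1 (hPσ hw)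
    · intro e
      apply hw1
      have h2 : w = n⁻¹ * (n * w * n⁻¹) * n := by group
      rw [h2, e]
      group
    · have h1 : (x : G) = n * (z : G) * n⁻¹ := hx
      have h2 : w * (z : G) = (z : G) * w := (mem_centralizer_iff.1 (hQP hzQ)) w hw
      rw [h1]
      calc n * (z : G) * n⁻¹ * (n * w * n⁻¹) = n * ((z : G) * w) * n⁻¹ := by group
        _ = n * (w * (z : G)) * n⁻¹ := by rw [h2]
        _ = _ := by group

/-- L6(c),(d): `N(X) ≤ M` and `C_{H_σ}(X) = H_σ ∩ M` for `X ≤ C_{M_σ}(P)` of prime order. -/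
theorem L6cd (hG : IsMinSimpleOddOrder G) (h3 : HL3 G) {M P H : Subgroup G} (hM : IsCoatom M)
    {p : ℕ} (hp : p ∈ kappa M) (hPM : P ≤ M) (hP : Nat.card P = p) (hH : IsCoatom H)
    (hNH : normalizer (P : Set G) ≤ H) {X : Subgroup G}
    (hX : X ≤ sigmaCore M ⊓ centralizer (P : Set G)) (hXp : (Nat.card X).Prime) :
    normalizer (X : Set G) ≤ M ∧
      sigmaCore H ⊓ centralizer (X : Set G) = sigmaCore H ⊓ M := by
  haveI : Fact p.Prime := ⟨hp.1⟩
  haveI : Fact (Nat.card X).Prime := ⟨hXp⟩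
  have hU := ut hG
  have hκ := (L6b hG h3 hM hp hPM hP hH hNH hXp (card_dvd_of_le hX)).1
  have hXH : X ≤ H := hX.trans (inf_le_right.trans ((centralizer_le_normalizer' P).trans hNH))
  have hXM : X ≤ M := hX.trans (inf_le_left.trans (sc_le M))
  have hXbot : X ≠ ⊥ := ne_bot_of_card_eq hXp rfl
  have hXtop : X ≠ ⊤ := fun e => hM.1 (top_le_iff.1 (e ▸ hXM))
  have hXpg : IsPGroup (Nat.card X) X := isPGroup_of_card_eq rfl
  have hqσM : Nat.card X ∈ sigma M := sc_primes M hXp (card_dvd_of_le (hX.trans inf_le_left))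
  have hN : normalizer (X : Set G) ≤ M := by
    obtain ⟨L, hL, hNL⟩ := exists_coatom_ge (MS_normalizer_ne_top hG hXbot hXtop)
    have hqσL := L5 hG h3 hH hκ hXH rfl hL hNL
    obtain ⟨g, hg⟩ := h139 hG M L hM hL ⟨_, hqσM, hqσL⟩
    by_cases hLM : L = M
    · exact hLM ▸ hNL
    · exfalso
      obtain ⟨S, hS, hXS⟩ := exists_isSylowIn_ge (le_inf hXM (le_normalizer.trans hNL)) hXpg
      exact (sigma_subgroup_embedding hG hU (h1416a hG) hM hqσM hXpg hXbot hXM hL hLM hNL hS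
        hXS).1 g hg
  exact ⟨hN, (L6a hG h3 hH hκ hXH rfl hM hN).2.2.2.symm⟩

end Cfsg.Agent.Lib.Helper9.BG13M
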