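import Cfsg.Agent.Lib.Helper9.TraceFactor
import Cfsg.Agent.Lib.Helper84.FusionCentral
import Cfsg.Agent.Lib.Helper84.FusionNormSys
import Cfsg.Agent.Lib.Helper85.FusNormal
import Cfsg.Agent.Lib.Helper88.FusModelQuot

set_option autoImplicit false

namespace Cfsg.Agent.Lib.Helper9

open Cfsg Cfsg.FusionSystem Cfsg.Agent.Lib.Helper84

open scoped IsMulCommutative in
/-- If `Z(S)` lies in a subgroup `Q` normal in the saturated system `F`, then `Z(F)` is a direct factor
of `Z(S)`. -/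
theorem fus_direct_factor {Ω : Type*} [Group Ω] {S : Subgroup Ω} [Finite S] (p : ℕ) [Fact p.Prime]
    (hS : IsPGroup p S) (F : Cfsg.FusionSystem S) (hF : F.IsSaturated p) (Q : Subgroup Ω)
    (hQ : F.IsNormal Q) (hZ : (S ⊓ Subgroup.centralizer (S : Set Ω)) ≤ Q) :
    ∃ K : Subgroup Ω, K ≤ (S ⊓ Subgroup.centralizer (S : Set Ω)) ∧ F.center ⊓ K = ⊥ ∧
      F.center ⊔ K = (S ⊓ Subgroup.centralizer (S : Set Ω)) := by
  have hQS := hQ.1
  obtain ⟨⟨-, R, hR⟩, -⟩ := Cfsg.Agent.Lib.Helper88.normal_sat hF hQ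
  have := finite_autGroup F hQS
  have := finite_of_le hQS
  let ρ : F.autGroup Q →* MulAut (Subgroup.center Q) := (centerRes Q).comp (F.autGroup Q).subtype
  have hρ : ∀ (a : F.autGroup Q) (v : Subgroup.center Q),
      ((ρ a v : Subgroup.center Q) : Q) = (a : MulAut Q) v := fun _ _ => rfl
  obtain ⟨k, hk⟩ := IsPGroup.iff_card.1 (hS.to_le hQS)
  have hn : ∀ v : Subgroup.center Q, v ^ (p ^ k) = 1 := by
    intro v
    apply Subtype.ext
    rw [Subgroup.coe_pow, ← hk]
    exact pow_card_eq_one'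
  have hcop : (R : Subgroup (F.autGroup Q)).index.Coprime (p ^ k) :=
    Nat.Coprime.pow_right k ((Nat.Prime.coprime_iff_not_dvd Fact.out).2 R.not_dvd_index).symm
  obtain ⟨K₀, h1, h2, h3⟩ := trace_direct_factor (V := Subgroup.center Q) ρ (R : Subgroup (F.autGroup Q)) (p ^ k) hn hcop
  have hcen := Cfsg.Agent.Lib.Helper85.isCentral_center F
  have hcen' := (central_iff hS F hF _).1 hcen
  -- fixed points of `Aut_S(Q)`
  have fixS : ∀ v : Subgroup.center Q, (∀ t ∈ (R : Subgroup (F.autGroup Q)), ρ t v = v) ↔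
      ((v : Q) : Ω) ∈ Subgroup.centralizer (S : Set Ω) := by
    intro v
    constructor
    · intro h
      apply Subgroup.mem_centralizer_iff.2
      intro s hs
      have hsN := Cfsg.Agent.Lib.Helper88.normal_le_normalizer hQ hs
      have hα : conjAut Q s hsN ∈ autInducedBy S Q := conjAut_mem_autInducedBy hsN hs
      have hα' : conjAut Q s hsN ∈ F.autGroup Q := autInducedBy_le_autGroup F hQS hα
      have hmem : (⟨_, hα'⟩ : F.autGroup Q) ∈ (R : Subgroup (F.autGroup Q)) := by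
        rw [hR]; exact hα
      have h4 := congrArg (fun z : Subgroup.center Q => ((z : Q) : Ω)) (h _ hmem)
      have h5 : s * ((v : Q) : Ω) * s⁻¹ = ((v : Q) : Ω) := h4
      calc s * ((v : Q) : Ω) = (s * ((v : Q) : Ω) * s⁻¹) * s := by group
        _ = ((v : Q) : Ω) * s := by rw [h5]
    · intro h t ht
      rw [hR] at ht
      obtain ⟨g, hg, hg'⟩ := (mem_autInducedBy_iff S Q _).1 (Subgroup.mem_subgroupOf.1 ht)
      apply Subtype.ext
      apply Subtype.ext
      rw [hρ, hg' v, (Subgroup.mem_centralizer_iff.1 h) g hg]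
      group
  -- fixed points of `Aut_F(Q)`
  have fixA1 : ∀ v : Subgroup.center Q, ((v : Q) : Ω) ∈ F.center → ∀ a, ρ a v = v := by
    intro v hv a
    have ha := (mem_autGroup_iff F hQS _).1 a.2
    have h4 := hcen'.2 _ hv _ (isConjElt_of_mem F ha (v : Q))
    apply Subtype.ext
    apply Subtype.ext
    rw [hρ]
    exact h4
  have fixA2 : ∀ v : Subgroup.center Q, (∀ a, ρ a v = v) → ((v : Q) : Ω) ∈ F.center := by
    intro v hv
    have hc : F.IsCentral (Subgroup.zpowers ((v : Q) : Ω)) := by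
      rw [central_iff hS F hF]
      refine ⟨(Subgroup.zpowers_le).2 (hQS (v : Q).2), ?_⟩
      rintro x ⟨j, rfl⟩ y ⟨φ, hφ, rfl⟩
      obtain ⟨ψ, hψ, hψ1, hψ2⟩ := hQ.2 _ φ hφ
      have hr := restrict_mem F hψ (le_sup_right : Q ≤ _ ⊔ Q)
      have hrange : (ψ.comp (Subgroup.inclusion (le_sup_right : Q ≤ _ ⊔ Q))).range = Q := by
        refine Eq.trans ?_ hψ2
        ext z
        constructor
        · rintro ⟨q, rfl⟩
          exact ⟨_, q.2, rfl⟩
        · rintro ⟨q, hq, rfl⟩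
          exact ⟨⟨q, hq⟩, rfl⟩
      have hmor := mor_equivOfRange F hr hrange
      have hmem := (mem_autGroup_iff F hQS _).2 hmor
      have h4 := hv ⟨_, hmem⟩
      have h5 : ρ ⟨_, hmem⟩ (v ^ j) = v ^ j := by rw [map_zpow, h4]
      have h6 := congrArg (fun z : Subgroup.center Q => ((z : Q) : Ω)) h5
      have h7 : ψ (Subgroup.inclusion le_sup_right ((v ^ j : Subgroup.center Q) : Q)) =
          (((v ^ j : Subgroup.center Q) : Q) : Ω) := h6
      have h8 : (((v ^ j : Subgroup.center Q) : Q) : Ω) = ((v : Q) : Ω) ^ j := by simp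
      rw [← hψ1]
      refine Eq.trans ?_ (h7.trans h8)
      congr 1
    exact (le_sSup (a := Subgroup.zpowers ((v : Q) : Ω)) hc) (Subgroup.mem_zpowers _)
  have hcenZ : F.center ≤ S ⊓ Subgroup.centralizer (S : Set Ω) := by
    intro x hx
    refine ⟨hcen.1 hx, ?_⟩
    apply Subgroup.mem_centralizer_iff.2
    intro s hs
    have h4 := hcen'.2 x hx _ (isConjElt_of_mem F (F.conj_mem hcen.1 hs) ⟨x, hx⟩)
    have h5 : s * x * s⁻¹ = x := h4
    calc s * x = (s * x * s⁻¹) * s := by group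
      _ = x * s := by rw [h5]
  have hlift : ∀ y ∈ S ⊓ Subgroup.centralizer (S : Set Ω), ∃ v : Subgroup.center Q,
      ((v : Q) : Ω) = y := by
    intro y hy
    refine ⟨⟨⟨y, hZ hy⟩, ?_⟩, rfl⟩
    rw [Subgroup.mem_center_iff]
    intro q
    apply Subtype.ext
    exact (Subgroup.mem_centralizer_iff.1 hy.2) q (hQS q.2)
  have hKZ : (K₀.map (Subgroup.center Q).subtype).map Q.subtype ≤
      S ⊓ Subgroup.centralizer (S : Set Ω) := by
    rintro _ ⟨_, ⟨v, hv, rfl⟩, rfl⟩
    exact ⟨hQS (v : Q).2, (fixS v).1 (h1 v hv)⟩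
  refine ⟨(K₀.map (Subgroup.center Q).subtype).map Q.subtype, hKZ, ?_, ?_⟩
  · rw [eq_bot_iff]
    rintro _ ⟨hx, _, ⟨v, hv, rfl⟩, rfl⟩
    rw [Subgroup.mem_bot]
    have := h2 v hv (fixA1 v hx)
    rw [this]
    rfl
  · apply le_antisymm (sup_le hcenZ hKZ)
    intro y hy
    obtain ⟨v, rfl⟩ := hlift y hy
    obtain ⟨w, k', hw, hk', e⟩ := h3 v ((fixS v).2 hy.2)
    rw [e]
    exact Subgroup.mul_mem_sup (fixA2 w hw) ⟨_, ⟨k', hk', rfl⟩, rfl⟩

end Cfsg.Agent.Lib.Helper9
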