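import Cfsg.Agent.Lib.Helper9.PPrimeCoreOf
import Cfsg.Agent.Lib.Helper47.Syl
import Cfsg.Agent.Lib.Helper47.Misc
import Cfsg.Agent.Lib.Helper1.Tools
import Cfsg.Agent.S0028

set_option autoImplicit false
open Cfsg Subgroup

namespace Cfsg.Agent.Lib.Helper9

open Cfsg.Agent.Lib.Helper47

variable {G : Type*} [Group G] {p : ℕ}

/-- Frattini argument: modulo a normal `p'`-subgroup `W`, the normalizer of the image of a
`p`-subgroup `P` is the image of the normalizer of `P`. -/
theorem normalizer_map_mk'_le [Finite G] [Fact p.Prime] (W : Subgroup G) [W.Normal]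
    (hW : (Nat.card W).Coprime p) (P : Subgroup G) (hP : IsPGroup p P) :
    normalizer ((P.map (QuotientGroup.mk' W) : Subgroup (G ⧸ W)) : Set (G ⧸ W)) ≤
      (normalizer (P : Set G)).map (QuotientGroup.mk' W) := by
  intro a ha
  obtain ⟨g, rfl⟩ := QuotientGroup.mk'_surjective W a
  have hg : g ∈ normalizer ((W ⊔ P : Subgroup G) : Set G) := by
    rw [← QuotientGroup.comap_map_mk', ← comap_normalizer_eq_of_surjective _
      (QuotientGroup.mk'_surjective W)]
    exact ha
  have hPW : P ≤ normalizer (W : Set G) := by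
    rw [normalizer_eq_top_iff.mpr inferInstance]; exact le_top
  have hsyl : IsSylowIn p P (W ⊔ P) := by
    apply isSylowIn_of_not_dvd_relIndex le_sup_right hP
    have h1 : Nat.card (P ⊔ W : Subgroup G) = Nat.card P * Nat.card W :=
      Cfsg.Agent.Lib.Helper1.card_sup_of_disjoint hPW
        (disjoint_iff.mpr (inf_eq_bot_of_isPGroup_of_coprime hP hW))
    have h2 : P.relIndex (W ⊔ P) * Nat.card P = Nat.card (W ⊔ P : Subgroup G) :=
      Cfsg.Agent.Lib.Helper1.relIndex_mul_card le_sup_right
    rw [sup_comm, h1, mul_comm] at h2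
    have h3 : P.relIndex (P ⊔ W) = Nat.card W :=
      Nat.eq_of_mul_eq_mul_left Nat.card_pos h2
    rw [sup_comm, h3]
    intro hdvd
    have := Nat.Coprime.eq_one_of_dvd hW.symm hdvd
    exact (Fact.out : p.Prime).one_lt.ne' this
  obtain ⟨n, hn, x, hx, rfl⟩ := hsyl.frattini le_normalizer le_rfl hg
  obtain ⟨w, hw, u, hu, rfl⟩ := mem_sup_of_le_normalizer hPW hn
  refine ⟨u * x, mul_mem (le_normalizer hu) hx.2, ?_⟩
  have : QuotientGroup.mk' W w = 1 := by
    rw [← MonoidHom.mem_ker, QuotientGroup.ker_mk']; exact hw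
  simp only [map_mul, this, one_mul]

/-- In a `p`-constrained group, `O_{p'}(N_G(P)) = O_{p'}(G) ∩ N_G(P)` for a `p`-subgroup `P`. -/
theorem pPrimeCoreOf_normalizer_eq [Finite G] [Fact p.Prime]
    (hc : centralizer (pCore p (G ⧸ pPrimeCore p G) : Set (G ⧸ pPrimeCore p G)) ≤
      pCore p (G ⧸ pPrimeCore p G)) (P : Subgroup G) (hP : IsPGroup p P) :
    pPrimeCoreOf p (normalizer (P : Set G)) = pPrimeCore p G ⊓ normalizer (P : Set G) := by
  set W := pPrimeCore p G with hW
  have hWc : (Nat.card W).Coprime p := Cfsg.Agent.Lib.Lead.card_pPrimeCore_coprime p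
  set N := normalizer (P : Set G) with hN
  set D := pPrimeCoreOf p N with hD
  have hDN : D ≤ N := pPrimeCoreOf_le N
  have hND : N ≤ normalizer (D : Set G) := le_normalizer_pPrimeCoreOf N
  have hDc : (Nat.card D).Coprime p := card_pPrimeCoreOf_coprime N
  apply le_antisymm
  · refine le_inf ?_ hDN
    set π := QuotientGroup.mk' W with hπ
    set U := pCore p (G ⧸ W) with hU
    have hUp : IsPGroup p U := Cfsg.Agent.Lib.Lead.pCore_isPGroup p _
    have hUn : normalizer (U : Set (G ⧸ W)) = ⊤ := normalizer_eq_top_iff.mpr inferInstance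
    have hPD : P ≤ centralizer (D : Set G) :=
      le_centralizer_of_normalize_of_inf_eq_bot (le_normalizer.trans hND) hDN
        (inf_eq_bot_of_isPGroup_of_coprime hP hDc)
    have hPD' : P.map π ≤ centralizer ((D.map π : Subgroup (G ⧸ W)) : Set (G ⧸ W)) := by
      refine (map_mono hPD).trans ?_
      have := map_centralizer_le_centralizer_image (D : Set G) π
      simpa using this
    have hDc' : (Nat.card (D.map π)).Coprime p :=
      Nat.Coprime.of_dvd_left (Subgroup.card_map_dvd _ _) hDc
    have hDU : D.map π ≤ centralizer (U : Set (G ⧸ W)) := by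
      apply Cfsg.Agent.S0028.result p (P.map π) (D.map π) U (hP.map π) hDc' hUp hPD'
      · rw [hUn]; exact le_top
      · rw [hUn]; exact le_top
      · apply le_centralizer_of_normalize_of_inf_eq_bot
        · refine inf_le_right.trans ((centralizer_le_normalizer _).trans ?_)
          refine (normalizer_map_mk'_le W hWc P hP).trans ?_
          exact (map_mono hND).trans (le_normalizer_map π)
        · intro d hd
          apply mem_normalizer_of_cj_eq
          rw [cj_inf, cj_eq_self_of_mem_normalizer (hUn ▸ mem_top d),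
            cj_eq_self_of_mem (le_centralizer_iff.mp hPD' hd)]
        · exact inf_eq_bot_of_isPGroup_of_coprime hUp.to_inf_left hDc'
    have hbot : D.map π = ⊥ := by
      rw [← le_bot_iff, ← inf_eq_bot_of_isPGroup_of_coprime hUp hDc']
      exact le_inf (hDU.trans hc) le_rfl
    rw [Subgroup.map_eq_bot_iff, QuotientGroup.ker_mk'] at hbot
    exact hbot
  · apply le_pPrimeCoreOf inf_le_right
    · intro g hg
      apply mem_normalizer_of_cj_eq
      rw [cj_inf, Normal_cj inferInstance, cj_eq_self_of_mem hg]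
    · exact Nat.Coprime.of_dvd_left (Subgroup.card_dvd_of_le inf_le_left) hWc

/-- In a `p`-constrained group, `O_{p'}(C_G(P)) = O_{p'}(G) ∩ C_G(P)` for a `p`-subgroup `P`. -/
theorem pPrimeCoreOf_centralizer_eq [Finite G] [Fact p.Prime]
    (hc : centralizer (pCore p (G ⧸ pPrimeCore p G) : Set (G ⧸ pPrimeCore p G)) ≤
      pCore p (G ⧸ pPrimeCore p G)) (P : Subgroup G) (hP : IsPGroup p P) :
    pPrimeCoreOf p (centralizer (P : Set G)) = pPrimeCore p G ⊓ centralizer (P : Set G) := by
  apply le_antisymm
  · refine le_inf ?_ (pPrimeCoreOf_le _)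
    have h1 : pPrimeCoreOf p (centralizer (P : Set G)) ≤ pPrimeCoreOf p (normalizer (P : Set G)) := by
      apply pPrimeCoreOf_le_pPrimeCoreOf_of_normal (centralizer_le_normalizer _)
      intro g hg
      apply mem_normalizer_of_cj_eq
      rw [cj_centralizer, cj_eq_self_of_mem_normalizer hg]
    rw [pPrimeCoreOf_normalizer_eq hc P hP] at h1
    exact h1.trans inf_le_left
  · apply le_pPrimeCoreOf inf_le_right
    · intro g hg
      apply mem_normalizer_of_cj_eq
      rw [cj_inf, Normal_cj inferInstance, cj_eq_self_of_mem hg]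
    · exact Nat.Coprime.of_dvd_left (Subgroup.card_dvd_of_le inf_le_left)
        (Cfsg.Agent.Lib.Lead.card_pPrimeCore_coprime p)

end Cfsg.Agent.Lib.Helper9
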